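import Cfsg.Agent.H354.FourTab
import Cfsg.Agent.S0813
import Cfsg.Agent.S2060
import Cfsg.Agent.S2063
import Cfsg.Agent.S2064

/-!
# The 4-transitive groups, from the list of the 2-transitive ones (helper354)

* `four` : the conclusion of S3387, if `Known2 T |Ω|` holds whenever `AS G Ω T` (H384, HUB H1).
-/

set_option autoImplicit false
set_option linter.unusedSectionVars false

namespace Cfsg.Agent.H354.Four

open MulAction Cfsg.Agent.H384.TwoTrans

universe u v

section

variable {G : Type u} {Ω : Type v} [Group G] [MulAction G Ω] {T : Subgroup G}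

theorem card_dvd_mulAut [Finite G] [hT : T.Normal] (hc : Subgroup.centralizer (T : Set G) = ⊥) :
    Nat.card G ∣ Nat.card (MulAut ↥T) := by
  refine Subgroup.card_dvd_of_injective (MulAut.conjNormal (H := T)) ?_
  rw [injective_iff_map_eq_one]
  intro g hg
  have h1 : g ∈ Subgroup.centralizer (T : Set G) := by
    rw [Subgroup.mem_centralizer_iff]
    intro t ht
    have h2 : ((MulAut.conjNormal (H := T) g) ⟨t, ht⟩ : G) = t := by rw [hg]; rfl
    rw [MulAut.conjNormal_apply] at h2
    have h3 : g * t * g⁻¹ * g = t * g := by rw [h2]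
    rw [inv_mul_cancel_right] at h3
    exact h3.symm
  rw [hc] at h1
  exact h1

/-- a normal subgroup with trivial centralizer and without outer automorphisms is the whole group -/
theorem eq_top_of_out [hT : T.Normal] (hc : Subgroup.centralizer (T : Set G) = ⊥) {X : Type*} [Group X]
    (e : ↥T ≃* X) (hX : Nat.card (Cfsg.Out X) = 1) : T = ⊤ := by
  have hinn : Cfsg.Inn X = ⊤ := Subgroup.index_eq_one.1 hX
  rw [eq_top_iff]
  intro g _
  let φ : MulAut X := (e.symm.trans (MulAut.conjNormal (H := T) g)).trans e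
  have hφ : φ ∈ Cfsg.Inn X := hinn ▸ Subgroup.mem_top φ
  obtain ⟨x, hx⟩ := hφ
  have h1 : ((e.symm x : ↥T) : G)⁻¹ * g ∈ Subgroup.centralizer (T : Set G) := by
    rw [Subgroup.mem_centralizer_iff]
    intro t ht
    have h2 : φ (e ⟨t, ht⟩) = x * e ⟨t, ht⟩ * x⁻¹ := by rw [← hx, MulAut.conj_apply]
    have h3 : φ (e ⟨t, ht⟩) = e (MulAut.conjNormal (H := T) g ⟨t, ht⟩) := by
      show e (MulAut.conjNormal (H := T) g (e.symm (e ⟨t, ht⟩))) = _
      rw [e.symm_apply_apply]
    rw [h3] at h2
    have h4 : MulAut.conjNormal (H := T) g ⟨t, ht⟩ = e.symm x * ⟨t, ht⟩ * (e.symm x)⁻¹ := by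
      apply e.injective
      rw [h2, map_mul, map_mul, map_inv, e.apply_symm_apply]
    have h5 : g * t * g⁻¹ = (e.symm x : ↥T) * t * ((e.symm x : ↥T) : G)⁻¹ := by
      have := congrArg (Subtype.val) h4
      rw [MulAut.conjNormal_apply] at this
      exact this
    have h6 : g * t = (e.symm x : ↥T) * t * ((e.symm x : ↥T) : G)⁻¹ * g := by
      rw [← h5, inv_mul_cancel_right]
    rw [mul_assoc, h6]
    group
  rw [hc, Subgroup.mem_bot] at h1
  have h2 : g = (e.symm x : ↥T) := by
    rw [inv_mul_eq_one] at h1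
    exact h1.symm
  rw [h2]
  exact (e.symm x).2

end

theorem card_mulAut_psl {F : Type} [Field F] [Fintype F] {k : ℕ} (hk : 2 ≤ k) (hF : Fintype.card F = 2 ^ k) :
    Nat.card (MulAut (Matrix.ProjectiveSpecialLinearGroup (Fin 2) F)) = k * ((2 ^ k + 1) * 2 ^ k * (2 ^ k - 1)) := by
  have : Fact (Nat.Prime 2) := ⟨Nat.prime_two⟩
  have h4 : 4 ≤ 2 ^ k := by
    calc 4 = 2 ^ 2 := rfl
      _ ≤ _ := Nat.pow_le_pow_right two_pos hk
  rw [Cfsg.Agent.S0813.result 2 k (by omega) hF 2 le_rfl (fun _ => h4), if_pos rfl,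
    ClassicalGeometry.PSL2Basic.card_PGL2, hF, one_mul]
  congr 1
  obtain ⟨q, hq⟩ : ∃ q, 2 ^ k = q + 1 := ⟨2 ^ k - 1, by omega⟩
  rw [hq]
  have e1 : (q + 1) ^ 2 - 1 = q * (q + 2) := by
    have : (q + 1) ^ 2 = q * (q + 2) + 1 := by ring
    omega
  rw [e1, Nat.add_sub_cancel]
  ring

variable {G : Type u} {Ω : Type v} [Group G] [Finite G] [Fintype Ω] [DecidableEq Ω] [MulAction G Ω]
  [FaithfulSMul G Ω]

/-- the conclusion of S3387 -/
def Concl (G : Type u) (Ω : Type v) [Group G] [Fintype Ω] [DecidableEq Ω] [MulAction G Ω] : Prop :=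
  (MulAction.toPermHom G Ω).range = ⊤ ∨ (MulAction.toPermHom G Ω).range = alternatingGroup Ω ∨
      (Fintype.card Ω = 11 ∧ Cfsg.Spor.IsoM11 G) ∨ (Fintype.card Ω = 12 ∧ Cfsg.Spor.IsoM12 G) ∨
      (Fintype.card Ω = 23 ∧ Cfsg.Spor.IsoM23 G) ∨ (Fintype.card Ω = 24 ∧ Cfsg.Spor.IsoM24 G)

theorem Concl.of_card (h : (Fintype.card Ω).factorial ≤ 2 * Nat.card G) : Concl G Ω := by
  rcases range_of_card h with h1 | h1
  · exact Or.inl h1
  · exact Or.inr (Or.inl h1)

/-- the case of odd degree -/
theorem four_odd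
    (hK : ∀ (G : Type u) (Ω : Type v) [Group G] [MulAction G Ω] (T : Subgroup G), AS G Ω T → Known2 ↥T (Nat.card Ω))
    (hodd : Odd (Fintype.card Ω)) (h6 : 6 ≤ Fintype.card Ω) (ht : IsMultiplyPretransitive G Ω 4) : Concl G Ω := by
  have hcardΩ : Nat.card Ω = Fintype.card Ω := Nat.card_eq_fintype_card
  have ht3 : IsMultiplyPretransitive G Ω 3 := isMultiplyPretransitive_of_le (n := 4) (by omega) (by omega)
  have ht2 : IsMultiplyPretransitive G Ω 2 := isMultiplyPretransitive_of_le (n := 4) (by omega) (by omega)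
  have h3 := tr3_of ht3
  have hodd' : Odd (Nat.card Ω) := by rwa [hcardΩ]
  rcases reduction (G := G) (Ω := Ω) ht2 (by omega) with ⟨N, hN, hN1, -, -, -, hfree⟩ | ⟨T, A⟩
  · exact (h3.not_semiregular hodd' (by omega) N hN1 hfree).elim
  have hTn := A.normal
  have hT3 := wagner hodd' (by omega) h3 T A.ne_bot
  have hkn := known3 A hT3 (hK G Ω T A)
  have hd4 := card_dvd_four ht (by omega)
  have hG : 0 < Nat.card G := Nat.card_pos
  have hTG : Nat.card ↥T ≤ Nat.card G := Nat.le_of_dvd hG (Subgroup.card_subgroup_dvd_card T)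
  have hdvd := card_dvd_mulAut A.cent
  have htop : ∀ (X : Type) [Group X], ↥T ≃* X → Nat.card (Cfsg.Out X) = 1 → Nonempty (G ≃* X) := by
    intro X _ e hX
    have h1 : T = ⊤ := eq_top_of_out A.cent e hX
    exact ⟨(Subgroup.topEquiv.symm.trans (MulEquiv.subgroupCongr h1.symm)).trans e⟩
  have hpos : 0 < Fintype.card Ω := by omega
  rw [hcardΩ] at hkn hd4
  have hcc : (Fintype.card Ω).factorial ≤ 2 * Nat.card G → Concl G Ω := Concl.of_card
  unfold Concl at *
  generalize Fintype.card Ω = n at *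
  cases hkn with
  | alt n hn => exact hcc (by omega)
  | psl F k hk hF e =>
    exfalso
    obtain ⟨e⟩ := e
    rw [Nat.card_congr (MulAut.congr e).toEquiv, card_mulAut_psl (by omega) hF] at hdvd
    have h1 := hd4.trans hdvd
    have h8 : 8 ≤ 2 ^ k := by
      calc 8 = 2 ^ 3 := rfl
        _ ≤ _ := Nat.pow_le_pow_right two_pos hk
    have e1 : (2 ^ k + 1) * (2 ^ k + 1 - 1) * (2 ^ k + 1 - 2) * (2 ^ k + 1 - 3) =
        (2 ^ k - 2) * ((2 ^ k + 1) * 2 ^ k * (2 ^ k - 1)) := by
      rw [Nat.add_sub_cancel, show 2 ^ k + 1 - 2 = 2 ^ k - 1 by omega, show 2 ^ k + 1 - 3 = 2 ^ k - 2 by omega]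
      ring
    rw [e1] at h1
    have hp : 0 < (2 ^ k + 1) * 2 ^ k * (2 ^ k - 1) := by
      have : 0 < 2 ^ k - 1 := by omega
      positivity
    have h2 := Nat.dvd_of_mul_dvd_mul_right hp h1
    have h3 := Nat.le_of_dvd (by omega) h2
    have h4 : k < 2 ^ (k - 1) := by
      obtain ⟨j, rfl⟩ : ∃ j, k = j + 3 := ⟨k - 3, by omega⟩
      rw [show j + 3 - 1 = j + 2 by omega]
      have : j < 2 ^ j := Nat.lt_two_pow_self
      rw [pow_add]
      omega
    have h5 : 2 ^ k = 2 * 2 ^ (k - 1) := by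
      rw [← pow_succ']
      congr 1
      omega
    omega
  | sp m n hm hn =>
    exfalso
    have h1 : 2 ∣ 2 ^ (m - 1) := dvd_pow_self 2 (by omega)
    have h2 : 2 ∣ n := by
      rcases hn with rfl | rfl
      · exact Dvd.dvd.mul_right h1 _
      · exact Dvd.dvd.mul_right h1 _
    exact (Nat.not_even_iff_odd.2 hodd) (even_iff_two_dvd.2 h2)
  | m11 h =>
    obtain ⟨e⟩ := h
    exact Or.inr (Or.inr (Or.inl ⟨rfl, htop _ e S2060.result⟩))
  | m23 h =>
    obtain ⟨e⟩ := h
    exact Or.inr (Or.inr (Or.inr (Or.inr (Or.inl ⟨rfl, htop _ e S2063.result⟩))))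
  | m11' h => exact absurd hodd (by decide)
  | m12 h => exact absurd hodd (by decide)
  | m22 h => exact absurd hodd (by decide)
  | m24 h => exact absurd hodd (by decide)

theorem faithful_stab (a : Ω) : FaithfulSMul (stabilizer G a) (SubMulAction.ofStabilizer G a) := by
  constructor
  intro g h hgh
  apply Subtype.ext
  refine FaithfulSMul.eq_of_smul_eq_smul (α := Ω) fun x => ?_
  by_cases hx : x = a
  · rw [hx]
    have h1 : (g : G) • a = a := g.2
    have h2 : (h : G) • a = a := h.2
    rw [h1, h2]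
  · exact congrArg Subtype.val (hgh ⟨x, hx⟩)

/-- the case of even degree -/
theorem four_even
    (hK : ∀ (G : Type u) (Ω : Type v) [Group G] [MulAction G Ω] (T : Subgroup G), AS G Ω T → Known2 ↥T (Nat.card Ω))
    (heven : Even (Fintype.card Ω)) (h6 : 6 ≤ Fintype.card Ω) (ht : IsMultiplyPretransitive G Ω 4) : Concl G Ω := by
  have hcardΩ : Nat.card Ω = Fintype.card Ω := Nat.card_eq_fintype_card
  have ht2 : IsMultiplyPretransitive G Ω 2 := isMultiplyPretransitive_of_le (n := 4) (by omega) (by omega)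
  have ht1 : IsPretransitive G Ω := isPretransitive_of_is_two_pretransitive
  have h4 := tr4_of ht
  obtain ⟨a⟩ : Nonempty Ω := Fintype.card_pos_iff.1 (by omega)
  -- the point stabilizer
  have hΔ : Nat.card (SubMulAction.ofStabilizer G a) = Fintype.card Ω - 1 := by rw [card_ofStabilizer, hcardΩ]
  have hs3 := stab_mpt ht1 ht a
  have hs2 : IsMultiplyPretransitive (stabilizer G a) (SubMulAction.ofStabilizer G a) 2 :=
    isMultiplyPretransitive_of_le (n := 3) (by omega) (by omega)
  have hsf : FaithfulSMul (stabilizer G a) (SubMulAction.ofStabilizer G a) := faithful_stab a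
  have hodd : Odd (Nat.card (SubMulAction.ofStabilizer G a)) := by
    rw [hΔ]
    exact Nat.Even.sub_odd (by omega) heven odd_one
  have h3 := tr3_of hs3
  have hcardG : Nat.card G = Fintype.card Ω * Nat.card (stabilizer G a) := by
    rw [← hcardΩ, ← MulAction.index_stabilizer_of_transitive G a, Subgroup.index_mul_card]
  rcases reduction (G := stabilizer G a) (Ω := SubMulAction.ofStabilizer G a) hs2 (by omega) with
    ⟨N, hN, hN1, -, -, -, hfree⟩ | ⟨M, B⟩
  · exact (h3.not_semiregular hodd (by omega) N hN1 hfree).elim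
  have hMn := B.normal
  have hM3 := wagner hodd (by omega) h3 M B.ne_bot
  have hkm := known3 B hM3 (hK _ _ M B)
  have hMS : Nat.card ↥M ≤ Nat.card (stabilizer G a) :=
    Nat.le_of_dvd Nat.card_pos (Subgroup.card_subgroup_dvd_card M)
  -- the socle
  rcases reduction (G := G) (Ω := Ω) ht2 (by omega) with ⟨N, hN, hN1, -, -, htr, hfree⟩ | ⟨T, A⟩
  · exact (not_regular_of_tr4 (by omega) h4 N htr hfree).elim
  have hTn := A.normal
  have hTtr := A.transitive
  have hMT : M ≤ T.subgroupOf (stabilizer G a) := by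
    refine B.le_of_normal _ inferInstance ?_
    intro h1
    rw [Subgroup.subgroupOf_eq_bot, disjoint_iff] at h1
    refine not_regular_of_tr4 (by omega) h4 T ?_ ?_
    · intro x y
      obtain ⟨⟨t, ht⟩, h⟩ := exists_smul_eq T x y
      exact ⟨t, ht, h⟩
    · intro x t ht htx
      obtain ⟨g, hg⟩ := exists_smul_eq G a x
      have h2 : g⁻¹ * t * g ∈ T ⊓ stabilizer G a := by
        refine ⟨?_, ?_⟩
        · have := hTn.conj_mem t ht g⁻¹
          rwa [inv_inv] at this
        · show (g⁻¹ * t * g) • a = a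
          rw [mul_smul, mul_smul, hg, htx, ← hg, inv_smul_smul]
      rw [h1, Subgroup.mem_bot] at h2
      calc t = g * (g⁻¹ * t * g) * g⁻¹ := by group
        _ = 1 := by rw [h2]; group
  have hTa : Nat.card ↥M ≤ Nat.card (stabilizer ↥T a) := by
    let f : ↥M → stabilizer ↥T a := fun m => ⟨⟨((m : stabilizer G a) : G), hMT m.2⟩, (m : stabilizer G a).2⟩
    refine Nat.card_le_card_of_injective f ?_
    intro x y hxy
    have h1 : (((f x : ↥T)) : G) = ((f y : ↥T) : G) := by rw [hxy]
    exact Subtype.ext (Subtype.ext h1)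
  have hcardT : Fintype.card Ω * Nat.card ↥M ≤ Nat.card ↥T := by
    rw [← A.card_mul a, hcardΩ]
    exact Nat.mul_le_mul_left _ hTa
  have hTG : Nat.card ↥T ≤ Nat.card G := Nat.le_of_dvd Nat.card_pos (Subgroup.card_subgroup_dvd_card T)
  -- `T` is 3-transitive
  have hT3 : Tr3 ↥T Ω := by
    apply tr3_of
    refine (SubMulAction.ofStabilizer.isMultiplyPretransitive (a := a)).2 ?_
    have : IsMultiplyPretransitive (stabilizer ↥T a) (SubMulAction.ofStabilizer ↥T a) 2 := by
      rw [is_two_pretransitive_iff]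
      intro x y x' y' hxy hxy'
      have hM2 : IsMultiplyPretransitive ↥M (SubMulAction.ofStabilizer G a) 2 :=
        have := hM3.of
        isMultiplyPretransitive_of_le (n := 3) (by omega) (by omega)
      rw [is_two_pretransitive_iff] at hM2
      obtain ⟨m, hm1, hm2⟩ := hM2 (a := ⟨x.1, x.2⟩) (b := ⟨y.1, y.2⟩) (c := ⟨x'.1, x'.2⟩) (d := ⟨y'.1, y'.2⟩)
        (fun h => hxy (Subtype.ext (congrArg Subtype.val h)))
        (fun h => hxy' (Subtype.ext (congrArg Subtype.val h)))
      refine ⟨⟨⟨((m : stabilizer G a) : G), hMT m.2⟩, (m : stabilizer G a).2⟩, ?_, ?_⟩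
      · exact Subtype.ext (congrArg Subtype.val hm1)
      · exact Subtype.ext (congrArg Subtype.val hm2)
    exact this
  have hkt := known3 A hT3 (hK G Ω T A)
  have hcc : (Fintype.card Ω).factorial ≤ 2 * Nat.card G → Concl G Ω := Concl.of_card
  have hfact : (Fintype.card Ω).factorial = Fintype.card Ω * (Fintype.card Ω - 1).factorial := by
    obtain ⟨k, hk⟩ : ∃ k, Fintype.card Ω = k + 1 := ⟨Fintype.card Ω - 1, by omega⟩
    rw [hk, Nat.factorial_succ, Nat.add_sub_cancel]
  have hMtop : ∀ (X : Type) [Group X], Nonempty (↥M ≃* X) → Nat.card (Cfsg.Out X) = 1 → T = ⊤ ∧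
      Nat.card G = Fintype.card Ω * Nat.card X := by
    rintro X _ ⟨e⟩ hX
    have h1 : M = ⊤ := eq_top_of_out B.cent e hX
    have h2 : Nat.card (stabilizer G a) = Nat.card ↥M := by rw [h1, Subgroup.card_top]
    refine ⟨?_, ?_⟩
    · apply Subgroup.eq_top_of_card_eq
      refine le_antisymm hTG ?_
      rw [hcardG, h2]
      exact hcardT
    · rw [hcardG, h2, Nat.card_congr e.toEquiv]
  have htop : ∀ (X : Type) [Group X], T = ⊤ → Nonempty (↥T ≃* X) → Nonempty (G ≃* X) := by
    rintro X _ h1 ⟨e⟩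
    exact ⟨(Subgroup.topEquiv.symm.trans (MulEquiv.subgroupCongr h1.symm)).trans e⟩
  rw [hΔ] at hkm hodd
  rw [hcardΩ] at hkt
  have hM0 : 0 < Nat.card ↥M := Nat.card_pos
  unfold Concl at *
  generalize hS : Nat.card (stabilizer G a) = S at *
  generalize Fintype.card Ω = n at *
  generalize hm : n - 1 = m at *
  cases hkm with
  | alt _ hn =>
    refine hcc ?_
    rw [hfact, hn, hcardG]
    nlinarith
  | sp k _ hk hn =>
    exfalso
    have h1 : 2 ∣ 2 ^ (k - 1) := dvd_pow_self 2 (by omega)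
    have h2 : 2 ∣ m := by
      rcases hn with rfl | rfl
      · exact Dvd.dvd.mul_right h1 _
      · exact Dvd.dvd.mul_right h1 _
    exact (Nat.not_even_iff_odd.2 hodd) (even_iff_two_dvd.2 h2)
  | m11' h => exact absurd hodd (by decide)
  | m12 h => exact absurd hodd (by decide)
  | m22 h => exact absurd hodd (by decide)
  | m24 h => exact absurd hodd (by decide)
  | m11 h =>
    obtain rfl : n = 12 := by omega
    obtain ⟨h1, h2⟩ := hMtop _ h S2060.result
    generalize hN : 12 = n at *
    cases hkt with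
    | alt _ hn => exact hcc (by omega)
    | psl F k hk hF e =>
      exfalso
      have : 2 ∣ 2 ^ k := dvd_pow_self 2 (by omega)
      omega
    | sp k _ hk hn =>
      exfalso
      have e1 : 4 ≤ 2 ^ (k - 1) := by
        calc 4 = 2 ^ 2 := rfl
          _ ≤ _ := Nat.pow_le_pow_right two_pos (by omega)
      have e2 : 8 ≤ 2 ^ k := by
        calc 8 = 2 ^ 3 := rfl
          _ ≤ _ := Nat.pow_le_pow_right two_pos (by omega)
      have e3 : 4 * 7 ≤ n := by
        rcases hn with rfl | rfl
        · exact Nat.mul_le_mul e1 (by omega)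
        · exact Nat.mul_le_mul e1 (by omega)
      omega
    | m11 h' => omega
    | m11' h' =>
      exfalso
      have e1 := BiChar.Small.card_of_iso h' HNType.Alt.card_M11
      have e2 := BiChar.Small.card_of_iso h HNType.Alt.card_M11
      omega
    | m12 h' => exact Or.inr (Or.inr (Or.inr (Or.inl ⟨rfl, htop _ h1 h'⟩)))
    | m22 h' => omega
    | m23 h' => omega
    | m24 h' => omega
  | m23 h =>
    obtain rfl : n = 24 := by omega
    obtain ⟨h1, h2⟩ := hMtop _ h S2063.result
    generalize hN : 24 = n at *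
    cases hkt with
    | alt _ hn => exact hcc (by omega)
    | psl F k hk hF e =>
      exfalso
      have : 2 ∣ 2 ^ k := dvd_pow_self 2 (by omega)
      omega
    | sp k _ hk hn =>
      exfalso
      have e1 : 4 ≤ 2 ^ (k - 1) := by
        calc 4 = 2 ^ 2 := rfl
          _ ≤ _ := Nat.pow_le_pow_right two_pos (by omega)
      have e2 : 8 ≤ 2 ^ k := by
        calc 8 = 2 ^ 3 := rfl
          _ ≤ _ := Nat.pow_le_pow_right two_pos (by omega)
      have e3 : 4 * 7 ≤ n := by
        rcases hn with rfl | rfl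
        · exact Nat.mul_le_mul e1 (by omega)
        · exact Nat.mul_le_mul e1 (by omega)
      omega
    | m11 h' => omega
    | m11' h' => omega
    | m12 h' => omega
    | m22 h' => omega
    | m23 h' => omega
    | m24 h' => exact Or.inr (Or.inr (Or.inr (Or.inr (Or.inr ⟨rfl, htop _ h1 h'⟩))))
  | psl F k hk hF e =>
    have hn : n = 2 ^ k + 2 := by omega
    have h8 : 8 ≤ 2 ^ k := by
      calc 8 = 2 ^ 3 := rfl
        _ ≤ _ := Nat.pow_le_pow_right two_pos hk
    have h4d : 8 ∣ 2 ^ k := by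
      rw [show 8 = 2 ^ 3 from rfl]
      exact pow_dvd_pow 2 hk
    cases hkt with
    | alt _ hn => exact hcc (by omega)
    | psl F' k' hk' hF' e' =>
      exfalso
      have : 2 ∣ 2 ^ k' := dvd_pow_self 2 (by omega)
      omega
    | sp l _ hl hn' =>
      exfalso
      have e1 : 4 ∣ 2 ^ (l - 1) := by
        rw [show 4 = 2 ^ 2 from rfl]
        exact pow_dvd_pow 2 (by omega)
      have e3 : 4 ∣ n := by
        rcases hn' with h1 | h1
        · rw [h1]; exact Dvd.dvd.mul_right e1 _
        · rw [h1]; exact Dvd.dvd.mul_right e1 _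
      omega
    | m11 h' => exfalso; omega
    | m11' h' => exfalso; omega
    | m12 h' => exfalso; omega
    | m22 h' => exfalso; omega
    | m23 h' => exfalso; omega
    | m24 h' => exfalso; omega

/-- **The 4-transitive groups.** -/
theorem four
    (hK : ∀ (G : Type u) (Ω : Type v) [Group G] [MulAction G Ω] (T : Subgroup G), AS G Ω T → Known2 ↥T (Nat.card Ω))
    (h4 : 4 ≤ Fintype.card Ω) (ht : IsMultiplyPretransitive G Ω 4) : Concl G Ω := by
  rcases Nat.lt_or_ge 5 (Fintype.card Ω) with h6 | h5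
  · rcases Nat.even_or_odd (Fintype.card Ω) with h | h
    · exact four_even hK h h6 ht
    · exact four_odd hK h h6 ht
  · apply Concl.of_card
    have hd4 := card_dvd_four ht (by rw [Nat.card_eq_fintype_card]; exact h4)
    have hle := Nat.le_of_dvd Nat.card_pos hd4
    rw [Nat.card_eq_fintype_card] at hle
    rcases (show Fintype.card Ω = 4 ∨ Fintype.card Ω = 5 by omega) with h | h
    · rw [h] at hle ⊢
      norm_num [Nat.factorial] at hle ⊢
      omega
    · rw [h] at hle ⊢
      norm_num [Nat.factorial] at hle ⊢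
      omega

end Cfsg.Agent.H354.Four
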