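import Cfsg.Agent.H354.FourPerm
import Cfsg.Agent.H384.TwoTransRed
import Cfsg.Agent.H410.ASLie
import Cfsg.Agent.S0256
import Cfsg.Agent.S1069
import Cfsg.Agent.S1163
import Cfsg.Agent.BiChar.SmallCard
import Cfsg.Agent.HKS.EndOrd
import Cfsg.Agent.ClassicalGeometry.PSL2Basic

/-!
# The 3-transitive simple groups, from the list of the 2-transitive ones (helper354)

* `Known3 T n` : the list;
* `known3` : `AS G Ω T`, `T` 3-transitive and `Known2 T |Ω|` imply `Known3 T |Ω|`.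
-/

set_option autoImplicit false

namespace Cfsg.Agent.H354.Four

open MulAction Cfsg.Agent.H384.TwoTrans
open scoped LinearAlgebra.Projectivization

universe u v

/-- The list of the 3-transitive actions of simple groups (the symplectic row is not excluded here). -/
inductive Known3 (T : Type u) [Group T] : ℕ → Prop
  | alt (n : ℕ) (hn : n.factorial = 2 * Nat.card T) : Known3 T n
  | psl (F : Type) [Field F] [Fintype F] (k : ℕ) (hk : 3 ≤ k) (hF : Fintype.card F = 2 ^ k)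
      (e : Nonempty (T ≃* Matrix.ProjectiveSpecialLinearGroup (Fin 2) F)) : Known3 T (2 ^ k + 1)
  | sp (m n : ℕ) (hm : 3 ≤ m) (hn : n = 2 ^ (m - 1) * (2 ^ m + 1) ∨ n = 2 ^ (m - 1) * (2 ^ m - 1)) : Known3 T n
  | m11 (h : Cfsg.Spor.IsoM11 T) : Known3 T 11
  | m11' (h : Cfsg.Spor.IsoM11 T) : Known3 T 12
  | m12 (h : Cfsg.Spor.IsoM12 T) : Known3 T 12
  | m22 (h : Cfsg.Spor.IsoM22 T) : Known3 T 22
  | m23 (h : Cfsg.Spor.IsoM23 T) : Known3 T 23
  | m24 (h : Cfsg.Spor.IsoM24 T) : Known3 T 24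

/-- `PSL_{m+3}(F)` is not 3-transitive on the points. -/
theorem psl_not_tr3 {F : Type*} [Field F] {m : ℕ}
    (h : Tr3 (Matrix.ProjectiveSpecialLinearGroup (Fin (m + 3)) F) (ℙ F (Fin (m + 3) → F))) : False := by
  have hne : ∀ {v w : Fin (m + 3) → F} (hv : v ≠ 0) (hw : w ≠ 0), (∃ i j, v i ≠ 0 ∧ v j = 0 ∧ w j ≠ 0) →
      Projectivization.mk F v hv ≠ Projectivization.mk F w hw := by
    rintro v w hv hw ⟨i, j, h1, h2, h3⟩ h4
    rw [Projectivization.mk_eq_mk_iff'] at h4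
    obtain ⟨c, rfl⟩ := h4
    rw [Pi.smul_apply, smul_eq_mul] at h1 h2
    exact h1 (by rw [(mul_eq_zero.1 h2).resolve_right h3, zero_mul])
  have hs : ∀ i : Fin (m + 3), (Pi.single i 1 : Fin (m + 3) → F) ≠ 0 := by
    intro i h0
    have := congrFun h0 i
    rw [Pi.single_eq_same] at this
    exact one_ne_zero this
  have i01 : (0 : Fin (m + 3)) ≠ 1 := by
    intro h; simp at h
  have i02 : (0 : Fin (m + 3)) ≠ ⟨2, by omega⟩ := by
    intro h; simp at h
  have i12 : (1 : Fin (m + 3)) ≠ ⟨2, by omega⟩ := by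
    intro h; simp at h
  set v0 : Fin (m + 3) → F := Pi.single 0 1 with hv0
  set v1 : Fin (m + 3) → F := Pi.single 1 1 with hv1
  set v2 : Fin (m + 3) → F := Pi.single ⟨2, by omega⟩ 1 with hv2
  have e00 : v0 0 = 1 := by rw [hv0, Pi.single_eq_same]
  have e01 : v0 1 = 0 := by rw [hv0, Pi.single_eq_of_ne (Ne.symm i01)]
  have e02 : v0 ⟨2, by omega⟩ = 0 := by rw [hv0, Pi.single_eq_of_ne (Ne.symm i02)]
  have e10 : v1 0 = 0 := by rw [hv1, Pi.single_eq_of_ne i01]
  have e11 : v1 1 = 1 := by rw [hv1, Pi.single_eq_same]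
  have e12 : v1 ⟨2, by omega⟩ = 0 := by rw [hv1, Pi.single_eq_of_ne (Ne.symm i12)]
  have e20 : v2 0 = 0 := by rw [hv2, Pi.single_eq_of_ne i02]
  have e21 : v2 1 = 0 := by rw [hv2, Pi.single_eq_of_ne i12]
  have e22 : v2 ⟨2, by omega⟩ = 1 := by rw [hv2, Pi.single_eq_same]
  have hw : v0 + v1 ≠ 0 := by
    intro h0
    have := congrFun h0 0
    rw [Pi.add_apply, e00, e10, Pi.zero_apply, add_zero] at this
    exact one_ne_zero this
  obtain ⟨g, h0, h1, h2⟩ := h (Projectivization.mk F v0 (hs _)) (Projectivization.mk F v1 (hs _))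
    (Projectivization.mk F (v0 + v1) hw) (Projectivization.mk F v0 (hs _)) (Projectivization.mk F v1 (hs _))
    (Projectivization.mk F v2 (hs _))
    (hne _ _ ⟨0, 1, by rw [e00]; exact one_ne_zero, e01, by rw [e11]; exact one_ne_zero⟩)
    (hne _ _ ⟨0, 1, by rw [e00]; exact one_ne_zero, e01, by rw [Pi.add_apply, e01, e11, zero_add]; exact one_ne_zero⟩)
    (hne _ _ ⟨1, 0, by rw [e11]; exact one_ne_zero, e10, by rw [Pi.add_apply, e00, e10, add_zero]; exact one_ne_zero⟩)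
    (hne _ _ ⟨0, 1, by rw [e00]; exact one_ne_zero, e01, by rw [e11]; exact one_ne_zero⟩)
    (hne _ _ ⟨0, ⟨2, by omega⟩, by rw [e00]; exact one_ne_zero, e02, by rw [e22]; exact one_ne_zero⟩)
    (hne _ _ ⟨1, ⟨2, by omega⟩, by rw [e11]; exact one_ne_zero, e12, by rw [e22]; exact one_ne_zero⟩)
  induction g using QuotientGroup.induction_on with
  | H g =>
  have h0' : g • Projectivization.mk F v0 (hs _) = Projectivization.mk F v0 (hs _) := h0
  have h1' : g • Projectivization.mk F v1 (hs _) = Projectivization.mk F v1 (hs _) := h1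
  have h2' : g • Projectivization.mk F (v0 + v1) hw = Projectivization.mk F v2 (hs _) := h2
  rw [Projectivization.smul_mk, Projectivization.mk_eq_mk_iff'] at h0' h1' h2'
  obtain ⟨a, ha⟩ := h0'
  obtain ⟨b, hb⟩ := h1'
  obtain ⟨c, hc⟩ := h2'
  rw [smul_add, ← ha, ← hb] at hc
  have k2 := congrFun hc ⟨2, by omega⟩
  have k0 := congrFun hc 0
  have k1 := congrFun hc 1
  rw [Pi.smul_apply, Pi.add_apply, Pi.smul_apply, Pi.smul_apply, smul_eq_mul, smul_eq_mul, smul_eq_mul] at k0 k1 k2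
  rw [e02, e12, e22, mul_one, mul_zero, mul_zero, add_zero] at k2
  rw [e00, e10, e20, mul_one, mul_zero, mul_zero, add_zero] at k0
  have h3 : g • v0 = 0 := by rw [← ha, ← k0, zero_smul]
  exact hs _ ((smul_eq_zero_iff_eq g).1 h3)

variable {G : Type u} {Ω : Type v} [Group G] [MulAction G Ω] {T : Subgroup G}

theorem Tr3.congr {G' Ω' : Type*} [Group G'] [MulAction G' Ω'] {H Δ : Type*} [Group H] [MulAction H Δ] (e : H ≃* G')
    (Φ : Δ ≃ Ω') (hΦ : ∀ (t : H) (ω : Δ), Φ (t • ω) = e t • Φ ω) (h : Tr3 H Δ) : Tr3 G' Ω' := by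
  intro a b c a' b' c' h1 h2 h3 h4 h5 h6
  obtain ⟨g, g1, g2, g3⟩ := h (Φ.symm a) (Φ.symm b) (Φ.symm c) (Φ.symm a') (Φ.symm b') (Φ.symm c')
    (fun h => h1 (Φ.symm.injective h)) (fun h => h2 (Φ.symm.injective h)) (fun h => h3 (Φ.symm.injective h))
    (fun h => h4 (Φ.symm.injective h)) (fun h => h5 (Φ.symm.injective h)) (fun h => h6 (Φ.symm.injective h))
  refine ⟨e g, ?_, ?_, ?_⟩
  · rw [← Φ.apply_symm_apply a, ← hΦ, g1, Φ.apply_symm_apply]
  · rw [← Φ.apply_symm_apply b, ← hΦ, g2, Φ.apply_symm_apply]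
  · rw [← Φ.apply_symm_apply c, ← hΦ, g3, Φ.apply_symm_apply]

theorem psl_row (A : AS G Ω T) (h3 : Tr3 ↥T Ω) (F : Type) [Field F] [Fintype F] (d : ℕ) (hd : 2 ≤ d)
    (hd2 : d = 2 → 4 ≤ Fintype.card F)
    (e : Nonempty (↥T ≃* Matrix.ProjectiveSpecialLinearGroup (Fin d) F))
    (hn : Nat.card Ω * (Fintype.card F - 1) = Fintype.card F ^ d - 1) : Known3 ↥T (Nat.card Ω) := by
  have := A.finG
  have := A.finΩ
  obtain ⟨e⟩ := e
  obtain ⟨r, hr⟩ := CharP.exists F
  have hrp : r.Prime := CharP.char_is_prime F r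
  have : Fact r.Prime := ⟨hrp⟩
  have h1F : 1 < Fintype.card F := Fintype.one_lt_card
  have hrF : r ∣ Fintype.card F := by
    rw [← CharP.cast_eq_zero_iff F r]
    exact FiniteField.cast_card_eq_zero F
  have hnd : ¬ r ∣ Nat.card Ω := by
    intro h1
    have h2 : r ∣ Fintype.card F ^ d - 1 := hn ▸ Dvd.dvd.mul_right h1 _
    have h3 : r ∣ Fintype.card F ^ d := hrF.trans (dvd_pow_self _ (by omega))
    have h4 : 1 ≤ Fintype.card F ^ d := Nat.one_le_pow _ _ (by omega)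
    have h5 : r ∣ 1 := by
      have := Nat.dvd_sub h3 h2
      rwa [Nat.sub_sub_self h4] at this
    exact hrp.one_lt.ne' (Nat.dvd_one.1 h5)
  rcases Nat.lt_or_ge 2 d with hd3 | hd3
  · obtain ⟨m, rfl⟩ : ∃ m, d = m + 1 + 1 + 1 := ⟨d - 3, by omega⟩
    obtain ⟨e', Φ, hΦ⟩ := H410.ASLie.psl_equiv A (m := m + 1) (r := r) e hnd
    exact (psl_not_tr3 (m := m) (h3.congr e' Φ hΦ)).elim
  obtain rfl : d = 2 := by omega
  have h4 := hd2 rfl
  have hcard := ClassicalGeometry.PSL2Basic.card_PSL2_gcd (F := F)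
  rw [← Nat.card_congr e.toEquiv] at hcard
  obtain ⟨q, hq⟩ : ∃ q, Fintype.card F = q + 1 := ⟨Fintype.card F - 1, by omega⟩
  rw [hq] at hcard hn h4
  have hq0 : 0 < q := by omega
  have e1 : (q + 1) ^ 2 - 1 = q * (q + 2) := by
    have : (q + 1) ^ 2 = q * (q + 2) + 1 := by ring
    omega
  have hn' : Nat.card Ω = q + 2 := by
    rw [e1, Nat.add_sub_cancel] at hn
    exact Nat.eq_of_mul_eq_mul_left hq0 ((mul_comm _ _).trans hn)
  have hdvd := h3.card_dvd (by omega)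
  rw [hn'] at hdvd
  have e2 : (q + 2) * (q + 2 - 1) * (q + 2 - 2) = (q + 1) * (q * (q + 2)) := by
    rw [Nat.add_sub_cancel, show q + 2 - 1 = q + 1 by omega]; ring
  rw [e2] at hdvd
  rw [e1, Nat.add_sub_cancel] at hcard
  have hpos : 0 < (q + 1) * (q * (q + 2)) := by positivity
  have hTpos : 0 < Nat.card ↥T := Nat.card_pos
  have hle := Nat.le_of_dvd hTpos hdvd
  have hg1 : Nat.gcd 2 q = 1 := by
    have hg0 : 0 < Nat.gcd 2 q := Nat.gcd_pos_of_pos_left _ (by norm_num)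
    by_contra hcon
    have h5 : 2 ≤ Nat.gcd 2 q := by omega
    nlinarith
  rw [hg1, mul_one] at hcard
  have hr2 : r = 2 := by
    have h5 : ¬ 2 ∣ q := by
      intro h5
      rw [Nat.gcd_eq_left h5] at hg1
      omega
    have h6 : 2 ∣ Fintype.card F := by omega
    obtain ⟨k, -, hk⟩ := FiniteField.card F r
    rw [hk] at h6
    exact ((Nat.prime_dvd_prime_iff_eq Nat.prime_two hrp).1 (Nat.prime_two.dvd_of_dvd_pow h6)).symm
  subst hr2
  obtain ⟨k, -, hk⟩ := FiniteField.card F 2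
  have hk2 : 2 ≤ (k : ℕ) := by
    by_contra hcon
    have : (k : ℕ) ≤ 1 := by omega
    have : 2 ^ (k : ℕ) ≤ 2 ^ 1 := Nat.pow_le_pow_right two_pos this
    omega
  rcases Nat.lt_or_ge 2 (k : ℕ) with hk3 | hk3
  · rw [hn', show q + 2 = 2 ^ (k : ℕ) + 1 by omega]
    exact .psl F k hk3 hk ⟨e⟩
  · have : (k : ℕ) = 2 := by omega
    rw [this] at hk
    have : q = 3 := by omega
    subst this
    refine .alt _ ?_
    rw [hn', hcard]
    decide

theorem card_alt {n : ℕ} (hn : 2 ≤ n) {X : Type*} [Group X] (e : Nonempty (X ≃* ↥(alternatingGroup (Fin n)))) :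
    n.factorial = 2 * Nat.card X := by
  obtain ⟨e⟩ := e
  have : Nontrivial (Fin n) := Fin.nontrivial_iff_two_le.2 hn
  rw [Nat.card_congr e.toEquiv, two_mul_nat_card_alternatingGroup, Nat.card_perm, Nat.card_eq_fintype_card,
    Fintype.card_fin]

/-- **The 3-transitive simple groups.** -/
theorem known3 (A : AS G Ω T) (h3 : Tr3 ↥T Ω) (hK : Known2 ↥T (Nat.card Ω)) : Known3 ↥T (Nat.card Ω) := by
  have := A.finG
  have := A.finΩ
  have hn5 := A.five_le
  have hdvd := h3.card_dvd (by omega)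
  have hTpos : 0 < Nat.card ↥T := Nat.card_pos
  have hle := Nat.le_of_dvd hTpos hdvd
  have hpsl := psl_row A h3
  generalize Nat.card Ω = n at *
  cases hK with
  | alt n hn e => exact .alt _ (card_alt (by omega) e)
  | psl F d n hd hd2 e hn => exact hpsl F d hd hd2 e hn
  | sp F m n hF hm e hn => exact .sp m _ hm hn
  | psu F q n hq hF e hn =>
    exfalso
    obtain ⟨t, rfl⟩ : ∃ t, q = t + 1 := ⟨q - 1, by omega⟩
    obtain ⟨e⟩ := e
    have hc := HKS.EndOrd.card_psu_three hF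
    rw [← Nat.card_congr e.toEquiv] at hc
    have hg : 0 < Nat.gcd 3 (t + 2) := Nat.gcd_pos_of_pos_left _ (by norm_num)
    subst hn
    have e1 : (t + 1) ^ 3 + 1 - 1 = (t + 1) ^ 3 := by omega
    have e2 : (t + 1) ^ 3 + 1 - 2 = t * (t ^ 2 + 3 * t + 3) := by
      have : (t + 1) ^ 3 + 1 = t * (t ^ 2 + 3 * t + 3) + 2 := by ring
      omega
    rw [e1, e2] at hle
    have e3 : (t + 1) ^ 3 + 1 = (t + 2) * (t ^ 2 + t + 1) := by ring
    rw [e3] at hle
    have h4 : Nat.card ↥T ≤ (t + 1) ^ 3 * (t * ((t + 2) ^ 2 * (t ^ 2 + t + 1))) := by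
      rw [← hc]; exact Nat.le_mul_of_pos_left _ hg
    have h5 := hle.trans h4
    have e4 : (t + 2) * (t ^ 2 + t + 1) * (t + 1) ^ 3 * (t * (t ^ 2 + 3 * t + 3)) =
        ((t + 1) ^ 3 * (t * ((t + 2) * (t ^ 2 + t + 1)))) * (t ^ 2 + 3 * t + 3) := by ring
    have e5 : (t + 1) ^ 3 * (t * ((t + 2) ^ 2 * (t ^ 2 + t + 1))) =
        ((t + 1) ^ 3 * (t * ((t + 2) * (t ^ 2 + t + 1)))) * (t + 2) := by ring
    rw [e4, e5] at h5
    have hpos : 0 < (t + 1) ^ 3 * (t * ((t + 2) * (t ^ 2 + t + 1))) := by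
      have : 0 < t := by omega
      positivity
    have h6 := Nat.le_of_mul_le_mul_left h5 hpos
    nlinarith
  | sz F m n hm hF e hn =>
    exfalso
    obtain ⟨e⟩ := e
    have hc := (S1163.result hm hF).1
    rw [← Nat.card_congr e.toEquiv] at hc
    rw [hF] at hn
    have h2 : 2 ≤ 2 ^ (2 * m + 1) := by
      calc 2 = 2 ^ 1 := rfl
        _ ≤ _ := Nat.pow_le_pow_right two_pos (by omega)
    generalize 2 ^ (2 * m + 1) = q at *
    obtain ⟨t, rfl⟩ : ∃ t, q = t + 1 := ⟨q - 1, by omega⟩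
    subst hn
    rw [hc, Nat.add_sub_cancel] at hle
    have e2 : (t + 1) ^ 2 + 1 - 2 = t * (t + 2) := by
      have : (t + 1) ^ 2 + 1 = t * (t + 2) + 2 := by ring
      omega
    rw [Nat.add_sub_cancel, e2] at hle
    have e3 : ((t + 1) ^ 2 + 1) * (t + 1) ^ 2 * (t * (t + 2)) = ((t + 1) ^ 2 * t * ((t + 1) ^ 2 + 1)) * (t + 2) := by
      ring
    rw [e3] at hle
    have hpos : 0 < (t + 1) ^ 2 * t * ((t + 1) ^ 2 + 1) := by
      have : 0 < t := by omega
      positivity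
    nlinarith
  | ree K m n hm hF e hn =>
    exfalso
    obtain ⟨e⟩ := e
    have hc := S1069.result hF
    rw [← Nat.card_congr e.toEquiv] at hc
    rw [hF] at hn
    have h2 : 3 ≤ 3 ^ (2 * m + 1) := by
      calc 3 = 3 ^ 1 := rfl
        _ ≤ _ := Nat.pow_le_pow_right (by norm_num) (by omega)
    generalize 3 ^ (2 * m + 1) = q at *
    obtain ⟨t, rfl⟩ : ∃ t, q = t + 1 := ⟨q - 1, by omega⟩
    subst hn
    rw [hc, Nat.add_sub_cancel] at hle
    have e2 : (t + 1) ^ 3 + 1 - 2 = t * (t ^ 2 + 3 * t + 3) := by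
      have : (t + 1) ^ 3 + 1 = t * (t ^ 2 + 3 * t + 3) + 2 := by ring
      omega
    rw [Nat.add_sub_cancel, e2] at hle
    have e3 : ((t + 1) ^ 3 + 1) * (t + 1) ^ 3 * (t * (t ^ 2 + 3 * t + 3)) =
        ((t + 1) ^ 3 * t * ((t + 1) ^ 3 + 1)) * (t ^ 2 + 3 * t + 3) := by
      ring
    rw [e3] at hle
    have hpos : 0 < (t + 1) ^ 3 * t * ((t + 1) ^ 3 + 1) := by
      have : 0 < t := by omega
      positivity
    nlinarith
  | psl2_8 F hF e =>
    exfalso
    obtain ⟨e⟩ := e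
    have hcard := ClassicalGeometry.PSL2Basic.card_PSL2_gcd (F := F)
    rw [← Nat.card_congr e.toEquiv, hF] at hcard
    norm_num at hcard hle
    omega
  | psl2_9 F hF e =>
    refine .alt _ ?_
    obtain ⟨e⟩ := e
    have hcard := ClassicalGeometry.PSL2Basic.card_PSL2_gcd (F := F)
    rw [← Nat.card_congr e.toEquiv, hF] at hcard
    norm_num at hcard
    norm_num [Nat.factorial]
    omega
  | psl2_11 F hF e =>
    exfalso
    obtain ⟨e⟩ := e
    have hcard := ClassicalGeometry.PSL2Basic.card_PSL2_gcd (F := F)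
    rw [← Nat.card_congr e.toEquiv, hF] at hcard
    norm_num at hcard hle
    omega
  | psl4_2 F hF e =>
    obtain ⟨e⟩ := e
    obtain ⟨e2⟩ := S0256.result hF
    exact .alt _ (card_alt (by omega) ⟨e.trans e2⟩)
  | a7 e =>
    exfalso
    have h4 := card_alt (by omega) e
    norm_num [Nat.factorial] at h4 hle
    omega
  | m11 h => exact .m11 h
  | m11' h => exact .m11' h
  | m12 h => exact .m12 h
  | m22 h => exact .m22 h
  | m23 h => exact .m23 h
  | m24 h => exact .m24 h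
  | hs h =>
    exfalso
    have hc := BiChar.Small.card_of_iso h BiChar.Small.card_HS
    rw [hc] at hdvd
    norm_num at hdvd
  | co3 h =>
    exfalso
    have hc := BiChar.Small.card_of_isoCo3 h
    rw [hc] at hdvd
    norm_num at hdvd

end Cfsg.Agent.H354.Four
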