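import Cfsg.Agent.H354.RankThree
import Cfsg.Agent.H384.TwoTransRed

/-!
# A characteristic class of involutions of rank 3 in the socle of a 2-transitive group (helper354, HUB H1 part P11)

`mem_list` : `A : AS G Ω T`, `D ⊆ T` a characteristic class of involutions, `|D| = v`, rank 3 with `k` commuting and `k'`
non-commuting elements; then `|Ω| ∈ L` if the computable test of `RankThree` holds.
-/

set_option autoImplicit false

namespace Cfsg.Agent.H354.RankThree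

open MulAction Cfsg.Agent.H384.TwoTrans

universe u v

variable {G : Type u} {Ω : Type v} [Group G] [MulAction G Ω] {T : Subgroup G}

/-- The data of a rank 3 class. -/
structure Cls (K : Type u) [Group K] (D : Set K) (v k k' : ℕ) : Prop where
  aut : ∀ (φ : MulAut K), ∀ d ∈ D, φ d ∈ D
  ncard : D.ncard = v
  link : ∀ d ∈ D, {e | e ∈ D ∧ e ≠ d ∧ d * e = e * d}.ncard = k
  far : ∀ d ∈ D, {e | e ∈ D ∧ d * e ≠ e * d}.ncard = k'
  trans : ∀ a ∈ D, ∀ b ∈ D, ∃ g : K, g * a * g⁻¹ = b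
  transC : ∀ a ∈ D, ∀ b ∈ D, ∀ a' ∈ D, ∀ b' ∈ D, a ≠ b → a' ≠ b' → a * b = b * a → a' * b' = b' * a' →
    ∃ g : K, g * a * g⁻¹ = a' ∧ g * b * g⁻¹ = b'
  transN : ∀ a ∈ D, ∀ b ∈ D, ∀ a' ∈ D, ∀ b' ∈ D, a * b ≠ b * a → a' * b' ≠ b' * a' →
    ∃ g : K, g * a * g⁻¹ = a' ∧ g * b * g⁻¹ = b'
  sq : ∀ d ∈ D, d * d = 1
  ne1 : ∀ d ∈ D, d ≠ 1

theorem exists_counts_AS (A : AS G Ω T) {D : Set ↥T} {v k k' : ℕ} (C : Cls ↥T D v k k') (hv : 0 < v) (hk : 0 < k)
    (hk' : 0 < k') : ∃ f k0 m l x y p q : ℕ, Counts v k k' (Nat.card Ω) f k0 m l x y p q := by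
  classical
  have := A.finG
  have := A.finΩ
  have := A.normal
  have := A.faithful
  have := Fintype.ofFinite Ω
  have hfive := A.five_le
  have : Nontrivial Ω := Finite.one_lt_card_iff_nontrivial.1 (by omega)
  set D' : Finset G := (Set.toFinite (Subtype.val '' D)).toFinset with hD'
  have mem : ∀ x : G, x ∈ D' ↔ ∃ d ∈ D, (d : G) = x := by
    intro x
    rw [hD', Set.Finite.mem_toFinset]
    rfl
  have inj : Function.Injective (Subtype.val : ↥T → G) := Subtype.val_injective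
  have hnc : ∀ (P : Set ↥T), (Subtype.val '' P : Set G).ncard = P.ncard := fun P => Set.ncard_image_of_injective _ inj
  have hcomm : ∀ a b : ↥T, (a : G) * b = b * a ↔ a * b = b * a := by
    intro a b
    rw [← Subgroup.coe_mul, ← Subgroup.coe_mul]
    exact ⟨fun h => Subtype.ext h, fun h => congrArg _ h⟩
  have hset1 : ∀ d : ↥T, {e : G | e ∈ D' ∧ e ≠ (d : G) ∧ (d : G) * e = e * d} =
      Subtype.val '' {e : ↥T | e ∈ D ∧ e ≠ d ∧ d * e = e * d} := by
    intro d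
    ext e
    constructor
    · rintro ⟨h1, h2, h3⟩
      obtain ⟨e', he', rfl⟩ := (mem e).1 h1
      exact ⟨e', ⟨he', fun h => h2 (congrArg _ h), (hcomm _ _).1 h3⟩, rfl⟩
    · rintro ⟨e', ⟨h1, h2, h3⟩, rfl⟩
      exact ⟨(mem _).2 ⟨e', h1, rfl⟩, fun h => h2 (Subtype.ext h), (hcomm _ _).2 h3⟩
  have hset2 : ∀ d : ↥T, {e : G | e ∈ D' ∧ (d : G) * e ≠ e * d} =
      Subtype.val '' {e : ↥T | e ∈ D ∧ d * e ≠ e * d} := by
    intro d
    ext e
    constructor
    · rintro ⟨h1, h3⟩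
      obtain ⟨e', he', rfl⟩ := (mem e).1 h1
      exact ⟨e', ⟨he', fun h => h3 ((hcomm _ _).2 h)⟩, rfl⟩
    · rintro ⟨e', ⟨h1, h3⟩, rfl⟩
      exact ⟨(mem _).2 ⟨e', h1, rfl⟩, fun h => h3 ((hcomm _ _).1 h)⟩
  have hcard : D'.card = v := by
    rw [← Set.ncard_coe_finset, hD', Set.Finite.coe_toFinset, hnc, C.ncard]
  have hDne : D.Nonempty := by
    rw [Set.nonempty_iff_ne_empty]
    rintro rfl
    have := C.ncard
    rw [Set.ncard_empty] at this
    omega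
  obtain ⟨d, hd⟩ := hDne
  rw [Nat.card_eq_fintype_card]
  refine exists_counts A.two (D := D') ?_ hcard ?_ ?_ ?_ ?_ ?_ (d := (d : G)) ((mem _).2 ⟨d, hd, rfl⟩) ?_ ?_ ?_ ?_
  · intro x hx g
    obtain ⟨d, hd, rfl⟩ := (mem x).1 hx
    exact (mem _).2 ⟨MulAut.conjNormal g d, C.aut _ d hd, by simp⟩
  · intro x hx
    obtain ⟨d, hd, rfl⟩ := (mem x).1 hx
    rw [hset1, hnc, C.link d hd]
  · intro x hx
    obtain ⟨d, hd, rfl⟩ := (mem x).1 hx
    rw [hset2, hnc, C.far d hd]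
  · intro x hx y hy
    obtain ⟨a, ha, rfl⟩ := (mem x).1 hx
    obtain ⟨b, hb, rfl⟩ := (mem y).1 hy
    obtain ⟨g, hg⟩ := C.trans a ha b hb
    exact ⟨g, congrArg Subtype.val hg⟩
  · intro x hx y hy x' hx' y' hy' h1 h2 h3 h4
    obtain ⟨a, ha, rfl⟩ := (mem x).1 hx
    obtain ⟨b, hb, rfl⟩ := (mem y).1 hy
    obtain ⟨a', ha', rfl⟩ := (mem x').1 hx'
    obtain ⟨b', hb', rfl⟩ := (mem y').1 hy'
    obtain ⟨g, hg1, hg2⟩ := C.transC a ha b hb a' ha' b' hb' (fun h => h1 (congrArg _ h)) (fun h => h2 (congrArg _ h))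
      ((hcomm _ _).1 h3) ((hcomm _ _).1 h4)
    exact ⟨g, congrArg Subtype.val hg1, congrArg Subtype.val hg2⟩
  · intro x hx y hy x' hx' y' hy' h3 h4
    obtain ⟨a, ha, rfl⟩ := (mem x).1 hx
    obtain ⟨b, hb, rfl⟩ := (mem y).1 hy
    obtain ⟨a', ha', rfl⟩ := (mem x').1 hx'
    obtain ⟨b', hb', rfl⟩ := (mem y').1 hy'
    obtain ⟨g, hg1, hg2⟩ := C.transN a ha b hb a' ha' b' hb'
      (fun h => h3 ((hcomm _ _).2 h)) (fun h => h4 ((hcomm _ _).2 h))
    exact ⟨g, congrArg Subtype.val hg1, congrArg Subtype.val hg2⟩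
  · by_contra hcon
    push Not at hcon
    apply C.ne1 d hd
    apply Subtype.ext
    exact FaithfulSMul.eq_of_smul_eq_smul (α := Ω) fun a => by rw [hcon a, Subgroup.coe_one, one_smul]
  · have h1 : {e | e ∈ D ∧ e ≠ d ∧ d * e = e * d}.Nonempty := by
      rw [Set.nonempty_iff_ne_empty]
      intro h
      have := C.link d hd
      rw [h, Set.ncard_empty] at this
      omega
    obtain ⟨e, h1, h2, h3⟩ := h1
    exact ⟨e, (mem _).2 ⟨e, h1, rfl⟩, fun h => h2 (Subtype.ext h), (hcomm _ _).2 h3⟩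
  · have h1 : {e | e ∈ D ∧ d * e ≠ e * d}.Nonempty := by
      rw [Set.nonempty_iff_ne_empty]
      intro h
      have := C.far d hd
      rw [h, Set.ncard_empty] at this
      omega
    obtain ⟨e, h1, h3⟩ := h1
    exact ⟨e, (mem _).2 ⟨e, h1, rfl⟩, fun h => h3 ((hcomm _ _).1 h)⟩
  · intro x hx
    obtain ⟨e, he, rfl⟩ := (mem x).1 hx
    rw [← Subgroup.coe_mul, C.sq e he, Subgroup.coe_one]

/-- **The degree is in the list.** -/
theorem mem_list (A : AS G Ω T) {D : Set ↥T} {v k k' s : ℕ} (C : Cls ↥T D v k k') {L : List ℕ} (hv : 0 < v)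
    (hk : 0 < k) (hk' : 0 < k') (hs : v < 2 ^ s)
    (h : allB (fun n => Nat.blt v (n - 1) || (!(feas v k k' n) || L.contains n)) s 2 = true) : Nat.card Ω ∈ L := by
  obtain ⟨f, k0, m, l, x, y, p, q, c⟩ := exists_counts_AS A C hv hk hk'
  exact mem_of_counts hk hk' (by have := A.five_le; omega) hv hs h c

end Cfsg.Agent.H354.RankThree
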