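import Cfsg.Agent.H970.TwoSporBase

/-!
# HUB H1, P11: tools for the rows M11, M12, M24 (helper354)
-/

set_option autoImplicit false

namespace Cfsg.Agent.H354.Spor

open Subgroup

/-- the index of the inner automorphism group is an isomorphism invariant -/
theorem index_inn_congr {T X : Type*} [Group T] [Group X] (e : T ≃* X) :
    (MulAut.conj : T →* MulAut T).range.index = (MulAut.conj : X →* MulAut X).range.index := by
  have h1 : (MulAut.conj : X →* MulAut X).range =
      (MulAut.conj : T →* MulAut T).range.map (MulAut.congr e).toMonoidHom := by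
    ext f
    constructor
    · rintro ⟨x, rfl⟩
      refine ⟨MulAut.conj (e.symm x), ⟨e.symm x, rfl⟩, ?_⟩
      ext y
      show e (e.symm x * e.symm y * (e.symm x)⁻¹) = x * y * x⁻¹
      simp
    · rintro ⟨_, ⟨t, rfl⟩, rfl⟩
      refine ⟨e t, ?_⟩
      ext y
      show e t * y * (e t)⁻¹ = e (t * e.symm y * t⁻¹)
      simp
  rw [h1, index_map_of_bijective (MulAut.congr e).bijective]

/-- a subgroup of prime order is generated by an element of that order -/
theorem exists_zpowers {T : Type*} [Group T] {p : ℕ} (hp : p.Prime) (P : Subgroup T) (hP : Nat.card P = p) :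
    ∃ x : T, orderOf x = p ∧ P = zpowers x := by
  have : Fact p.Prime := ⟨hp⟩
  have hfin : Finite P := Nat.finite_of_card_ne_zero (by rw [hP]; exact hp.ne_zero)
  obtain ⟨x, hx⟩ := exists_prime_orderOf_dvd_card' (G := P) p (by rw [hP])
  have hx' : orderOf (x : T) = p := by rw [← hx]; exact Subgroup.orderOf_coe x
  refine ⟨x, hx', (eq_of_le_of_card_ge ?_ ?_).symm⟩
  · rw [zpowers_le]; exact x.2
  · rw [hP, Nat.card_zpowers, hx']

theorem cent_zpowers {T : Type*} [Group T] (x : T) :
    centralizer ((zpowers x : Subgroup T) : Set T) = centralizer ({x} : Set T) := by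
  rw [zpowers_eq_closure, centralizer_closure]

end Cfsg.Agent.H354.Spor
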