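import Cfsg.Agent.H354.FourPerm
import Cfsg.Agent.H354.SporTools
import Cfsg.Agent.H858.NormC

/-!
# Sharply 5-transitive groups of degree 12 (helper354)

* `Sh L Δ` : `L` is 5-transitive on `Δ`, `|Δ| = 12`, `|L| = 95040`;
* `cent_eleven`, `norm_eleven`, `cent_five`, `norm_five`;
* `no_55` : there is no subgroup of index 55.
-/

set_option autoImplicit false

namespace Cfsg.Agent.H354.SharpFive

open MulAction Subgroup Cfsg.Agent.H354.Spor

/-- a sharply 5-transitive group of degree 12 -/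
structure Sh (L Δ : Type*) [Group L] [MulAction L Δ] : Prop where
  finL : Finite L
  finΔ : Finite Δ
  cardΔ : Nat.card Δ = 12
  five : IsMultiplyPretransitive L Δ 5
  cardL : Nat.card L = 95040

variable {L Δ : Type*} [Group L] [MulAction L Δ]

theorem Sh.sharp (S : Sh L Δ) {g : L} (x : Fin 5 ↪ Δ) (hx : ∀ i, g • x i = x i) : g = 1 := by
  have := S.finL
  have := S.finΔ
  classical
  have := Fintype.ofFinite Δ
  have hc : Fintype.card Δ = 12 := by rw [← Nat.card_eq_fintype_card, S.cardΔ]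
  have := S.five
  have h1 := MulAction.index_stabilizer_of_transitive L x
  rw [Nat.card_eq_fintype_card (α := Fin 5 ↪ Δ), Fintype.card_embedding_eq, Fintype.card_fin, hc] at h1
  have h2 := (stabilizer L x).card_mul_index
  rw [h1, S.cardL] at h2
  have h3 : Nat.descFactorial 12 5 = 95040 := by decide
  rw [h3] at h2
  have h4 : Nat.card (stabilizer L x) = 1 := by omega
  have h5 : g ∈ stabilizer L x := by
    rw [mem_stabilizer_iff]
    ext i
    exact hx i
  rw [Subgroup.card_eq_one.1 h4] at h5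
  exact h5

theorem Sh.eq_one (S : Sh L Δ) {g : L} {s : Set Δ} (hs : 5 ≤ s.ncard) (hfix : ∀ p ∈ s, g • p = p) : g = 1 := by
  have := S.finΔ
  classical
  have := Fintype.ofFinite ↥s
  have h1 : Fintype.card (Fin 5) ≤ Fintype.card ↥s := by
    rw [Fintype.card_fin, ← Nat.card_eq_fintype_card, Nat.card_coe_set_eq]
    exact hs
  obtain ⟨f⟩ := Function.Embedding.nonempty_of_card_le h1
  exact S.sharp (f.trans (Function.Embedding.subtype _)) fun i => hfix _ (f i).2

theorem Sh.eq_one_of_card (S : Sh L Δ) {R : Subgroup L} (hs : 5 ≤ Nat.card (fixedPoints ↥R Δ)) : R = ⊥ := by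
  rw [Subgroup.eq_bot_iff_forall]
  intro g hg
  rw [Nat.card_coe_set_eq] at hs
  exact S.eq_one hs fun p hp => hp ⟨g, hg⟩

theorem Sh.card_fix_mod (S : Sh L Δ) {p : ℕ} [Fact p.Prime] {R : Subgroup L} (hR : IsPGroup p ↥R) :
    12 ≡ Nat.card (fixedPoints ↥R Δ) [MOD p] := by
  have := S.finΔ
  rw [← S.cardΔ]
  exact hR.card_modEq_card_fixedPoints Δ

theorem Sh.card_fix_le (S : Sh L Δ) {R : Subgroup L} (hR : R ≠ ⊥) : Nat.card (fixedPoints ↥R Δ) ≤ 4 := by
  by_contra hcon
  exact hR (S.eq_one_of_card (by omega))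

/-- free action on the complement of an invariant set -/
theorem card_dvd_compl {U : Type*} [Group U] [MulAction U Δ] [Finite U] [Finite Δ] {s : Set Δ}
    (hs : ∀ (u : U), ∀ p ∈ s, u • p ∈ s) (hf : ∀ (u : U), ∀ p, p ∉ s → u • p = p → u = 1) :
    Nat.card U ∣ Nat.card Δ - s.ncard := by
  classical
  let X := {p : Δ // p ∉ s}
  have hs' : ∀ (u : U) (p : Δ), p ∉ s → u • p ∉ s := by
    intro u p hp h
    apply hp
    have := hs u⁻¹ _ h
    rwa [inv_smul_smul] at this
  let : MulAction U X :=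
    { smul := fun u p => ⟨u • p.1, hs' u p.1 p.2⟩
      one_smul := fun p => Subtype.ext (one_smul _ _)
      mul_smul := fun u v p => Subtype.ext (mul_smul _ _ _) }
  have h1 : Nat.card U ∣ Nat.card X := by
    have hcard : ∀ x : X, stabilizer U x = ⊥ := by
      intro x
      rw [Subgroup.eq_bot_iff_forall]
      intro u hu
      exact hf u x.1 x.2 (congrArg Subtype.val hu)
    have := Fintype.ofFinite U
    have := Fintype.ofFinite X
    have := Fintype.ofFinite (Quotient (orbitRel U X))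
    have h1 := card_eq_sum_card_group_div_card_stabilizer U X
    have h2 : ∀ ω : Quotient (orbitRel U X), Fintype.card U / Fintype.card (stabilizer U ω.out) = Fintype.card U := by
      intro ω
      have h3 : Fintype.card (stabilizer U ω.out) = 1 := by
        rw [← Nat.card_eq_fintype_card, hcard, Subgroup.card_bot]
      rw [h3, Nat.div_one]
    rw [Finset.sum_congr rfl fun ω _ => h2 ω, Finset.sum_const, smul_eq_mul] at h1
    rw [Nat.card_eq_fintype_card, Nat.card_eq_fintype_card, h1]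
    exact Dvd.intro_left _ rfl
  have h2 : Nat.card X = Nat.card Δ - s.ncard := by
    have h3 : Nat.card X = (sᶜ).ncard := rfl
    rw [h3, Set.ncard_compl]
  rwa [h2] at h1

/-- elements of order 11 -/
theorem Sh.cent_eleven (S : Sh L Δ) {x : L} (hx : orderOf x = 11) :
    Nat.card (centralizer ({x} : Set L)) = 11 := by
  have := S.finL
  have := S.finΔ
  have : Fact (Nat.Prime 11) := ⟨by norm_num⟩
  have hne : zpowers x ≠ ⊥ := by
    intro h
    have := Nat.card_zpowers x
    rw [h, Subgroup.card_bot, hx] at this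
    omega
  have h1 := S.card_fix_mod (p := 11) (R := zpowers x) (IsPGroup.of_card (n := 1) (by rw [Nat.card_zpowers, hx, pow_one]))
  have h2 := S.card_fix_le hne
  have h3 : Nat.card (fixedPoints ↥(zpowers x) Δ) = 1 := by
    unfold Nat.ModEq at h1
    omega
  have h4 : Nat.card ↥(centralizer ({x} : Set L)) ∣ Nat.card Δ - (fixedPoints ↥(zpowers x) Δ).ncard := by
    refine card_dvd_compl ?_ ?_
    · rintro ⟨u, hu⟩ p hp ⟨r, hr⟩
      have h5 : r * u = u * r := by
        obtain ⟨k, rfl⟩ := mem_zpowers_iff.1 hr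
        have h6 : Commute x u := mem_centralizer_iff.1 hu x rfl
        exact (h6.zpow_left k).eq
      show r • u • p = u • p
      rw [← mul_smul, h5, mul_smul]
      congr 1
      exact hp ⟨r, hr⟩
    · rintro ⟨u, hu⟩ p hp hup
      apply Subtype.ext
      have hup' : u • p = p := hup
      have hcomm : ∀ k : ℕ, u * x ^ k = x ^ k * u := by
        intro k
        have h6 : Commute x u := mem_centralizer_iff.1 hu x rfl
        exact (h6.pow_left k).eq.symm
      have hinj : ∀ i j : ℕ, i < 5 → j < 5 → x ^ i • p = x ^ j • p → i = j := by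
        have key : ∀ i j : ℕ, i < j → j < 5 → x ^ i • p ≠ x ^ j • p := by
          intro i j hij hj h
          apply hp
          have h7 : x ^ (j - i) • p = p := by
            have h8 : x ^ j = x ^ i * x ^ (j - i) := by rw [← pow_add]; congr 1; omega
            rw [h8, mul_smul] at h
            exact (smul_left_cancel _ h).symm
          have h9 : x ∈ zpowers (x ^ (j - i)) := by
            have h10 : zpowers (x ^ (j - i)) = zpowers x := by
              apply eq_of_le_of_card_ge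
              · rw [zpowers_le]; exact npow_mem_zpowers x _
              · rw [Nat.card_zpowers, Nat.card_zpowers, orderOf_pow, hx]
                have : Nat.gcd 11 (j - i) = 1 := by
                  rw [← Nat.coprime_iff_gcd_eq_one, Nat.Prime.coprime_iff_not_dvd (by norm_num)]
                  intro h11
                  have := Nat.le_of_dvd (by omega) h11
                  omega
                rw [this]
            rw [h10]; exact mem_zpowers x
          obtain ⟨k, hk⟩ := mem_zpowers_iff.1 h9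
          have h11 : x • p = p := by
            rw [← hk]
            have h12 : x ^ (j - i) ∈ stabilizer L p := h7
            exact (stabilizer L p).zpow_mem h12 k
          rintro ⟨r, hr⟩
          obtain ⟨m, rfl⟩ := mem_zpowers_iff.1 hr
          have h12 : x ∈ stabilizer L p := h11
          exact (stabilizer L p).zpow_mem h12 m
        intro i j hi hj h
        rcases Nat.lt_trichotomy i j with h1 | h1 | h1
        · exact (key i j h1 hj h).elim
        · exact h1
        · exact (key j i h1 hi h.symm).elim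
      refine S.sharp ⟨fun i : Fin 5 => x ^ (i : ℕ) • p, fun i j h => Fin.ext (hinj i j i.2 j.2 h)⟩ ?_
      intro i
      show u • x ^ (i : ℕ) • p = x ^ (i : ℕ) • p
      rw [← mul_smul, hcomm, mul_smul, hup']
  rw [S.cardΔ, ← Nat.card_coe_set_eq, h3] at h4
  have h5 : 11 ∣ Nat.card ↥(centralizer ({x} : Set L)) := by
    rw [← hx]
    exact Subgroup.orderOf_dvd_natCard _ (mem_centralizer_singleton_iff.2 rfl)
  exact Nat.dvd_antisymm h4 h5

theorem Sh.norm_eleven (S : Sh L Δ) {x : L} (hx : orderOf x = 11) :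
    Nat.card (normalizer ((zpowers x : Subgroup L) : Set L)) ∣ 55 := by
  have := S.finL
  have hp : Fact (Nat.Prime 11) := ⟨by norm_num⟩
  have hc : Nat.card (zpowers x) = 11 := by rw [Nat.card_zpowers, hx]
  obtain ⟨j, hj, h1⟩ := Cfsg.Agent.H858.NormC.exists_card_normalizer_prime (by norm_num) hc
  rw [cent_zpowers, S.cent_eleven hx] at h1
  have h5 := Cfsg.Agent.H858.NormC.index_normalizer_modEq (p := 11) (P := zpowers x)
    (IsPGroup.of_card (n := 1) (by rw [hc, pow_one]))
    (Cfsg.Agent.H858.NormC.not_dvd_index hc (by rw [S.cardL]; norm_num))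
  have h6 := (normalizer ((zpowers x : Subgroup L) : Set L)).card_mul_index
  rw [S.cardL] at h6
  have hj'' : j = 1 ∨ j = 2 ∨ j = 5 ∨ j = 10 := by
    have hj' : j ∈ Nat.divisors 10 := Nat.mem_divisors.2 ⟨hj, by norm_num⟩
    have : Nat.divisors 10 = {1, 2, 5, 10} := by decide
    rw [this] at hj'
    simpa using hj'
  unfold Nat.ModEq at h5
  rcases hj'' with rfl | rfl | rfl | rfl <;> norm_num at h1 <;> rw [h1] at h6 ⊢ <;> first | (norm_num; done) | (exfalso; omega)

/-- elements of order 5 -/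
theorem Sh.cent_five (S : Sh L Δ) {y : L} (hy : orderOf y = 5) :
    Nat.card (centralizer ({y} : Set L)) ∣ 20 := by
  have := S.finL
  have := S.finΔ
  classical
  have : Fact (Nat.Prime 5) := ⟨by norm_num⟩
  have hne : zpowers y ≠ ⊥ := by
    intro h
    have := Nat.card_zpowers y
    rw [h, Subgroup.card_bot, hy] at this
    omega
  have h1 := S.card_fix_mod (p := 5) (R := zpowers y) (IsPGroup.of_card (n := 1) (by rw [Nat.card_zpowers, hy, pow_one]))
  have h2 := S.card_fix_le hne
  have h3 : Nat.card (fixedPoints ↥(zpowers y) Δ) = 2 := by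
    unfold Nat.ModEq at h1
    omega
  set F := fixedPoints ↥(zpowers y) Δ with hF
  have hinv : ∀ u ∈ centralizer ({y} : Set L), ∀ p ∈ F, u • p ∈ F := by
    rintro u hu p hp ⟨r, hr⟩
    have h5 : r * u = u * r := by
      obtain ⟨k, rfl⟩ := mem_zpowers_iff.1 hr
      have h6 : Commute y u := mem_centralizer_iff.1 hu y rfl
      exact (h6.zpow_left k).eq
    show r • u • p = u • p
    rw [← mul_smul, h5, mul_smul]
    congr 1
    exact hp ⟨r, hr⟩
  -- two fixed points
  rw [Nat.card_coe_set_eq, Set.ncard_eq_two] at h3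
  obtain ⟨a, b, hab, hFab⟩ := h3
  -- the stabilizer of `a` in `C(y)` has index at most 2
  set C := centralizer ({y} : Set L) with hC
  have hinv' : ∀ u ∈ C, (u • a = a ∨ u • a = b) ∧ (u • b = a ∨ u • b = b) := by
    intro u hu
    have ha := hinv u hu a (by rw [hFab]; exact Set.mem_insert _ _)
    have hb := hinv u hu b (by rw [hFab]; exact Set.mem_insert_of_mem _ rfl)
    rw [hFab] at ha hb
    exact ⟨ha, hb⟩
  have hidx : (stabilizer ↥C a).index ∣ 2 := by
    rw [MulAction.index_stabilizer]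
    have h4 : orbit ↥C a ⊆ {a, b} := by
      rintro _ ⟨⟨u, hu⟩, rfl⟩
      exact (hinv' u hu).1
    have h5 : (orbit ↥C a).ncard ≤ 2 := (Set.ncard_le_ncard h4 (Set.toFinite _)).trans (Set.ncard_insert_le a {b} |>.trans (by rw [Set.ncard_singleton]))
    have h6 : 0 < (orbit ↥C a).ncard := (Set.ncard_pos (Set.toFinite _)).2 ⟨a, mem_orbit_self a⟩
    have h7 : (orbit ↥C a).ncard = 1 ∨ (orbit ↥C a).ncard = 2 := by omega
    rcases h7 with h7 | h7 <;> rw [h7]
    exact one_dvd _
  have hfree : Nat.card (stabilizer ↥C a) ∣ Nat.card Δ - F.ncard := by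
    refine card_dvd_compl (U := stabilizer ↥C a) ?_ ?_
    · rintro ⟨⟨u, hu⟩, hua⟩ p hp
      exact hinv u hu p hp
    · rintro ⟨⟨u, hu⟩, hua⟩ p hp hup
      have hup' : u • p = p := hup
      have hua' : u • a = a := hua
      have hub' : u • b = b := by
        rcases (hinv' u hu).2 with h | h
        · exfalso
          apply hab
          exact smul_left_cancel u (hua'.trans h.symm)
        · exact h
      apply Subtype.ext
      apply Subtype.ext
      show u = 1
      have hcomm : ∀ k : ℕ, u * y ^ k = y ^ k * u := by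
        intro k
        have h6 : Commute y u := mem_centralizer_iff.1 hu y rfl
        exact (h6.pow_left k).eq.symm
      have hyp : y • p ≠ p := by
        intro h
        apply hp
        rintro ⟨r, hr⟩
        obtain ⟨m, rfl⟩ := mem_zpowers_iff.1 hr
        have h12 : y ∈ stabilizer L p := h
        exact (stabilizer L p).zpow_mem h12 m
      have hinj : ∀ i j : ℕ, i < 5 → j < 5 → y ^ i • p = y ^ j • p → i = j := by
        have key : ∀ i j : ℕ, i < j → j < 5 → y ^ i • p ≠ y ^ j • p := by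
          intro i j hij hj h
          apply hyp
          have h7 : y ^ (j - i) • p = p := by
            have h8 : y ^ j = y ^ i * y ^ (j - i) := by rw [← pow_add]; congr 1; omega
            rw [h8, mul_smul] at h
            exact (smul_left_cancel _ h).symm
          have h9 : y ∈ zpowers (y ^ (j - i)) := by
            have h10 : zpowers (y ^ (j - i)) = zpowers y := by
              apply eq_of_le_of_card_ge
              · rw [zpowers_le]; exact npow_mem_zpowers y _
              · rw [Nat.card_zpowers, Nat.card_zpowers, orderOf_pow, hy]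
                have : Nat.gcd 5 (j - i) = 1 := by
                  rw [← Nat.coprime_iff_gcd_eq_one, Nat.Prime.coprime_iff_not_dvd (by norm_num)]
                  intro h11
                  have := Nat.le_of_dvd (by omega) h11
                  omega
                rw [this]
            rw [h10]; exact mem_zpowers y
          obtain ⟨k, hk⟩ := mem_zpowers_iff.1 h9
          rw [← hk]
          have h12 : y ^ (j - i) ∈ stabilizer L p := h7
          exact (stabilizer L p).zpow_mem h12 k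
        intro i j hi hj h
        rcases Nat.lt_trichotomy i j with h1 | h1 | h1
        · exact (key i j h1 hj h).elim
        · exact h1
        · exact (key j i h1 hi h.symm).elim
      refine S.sharp ⟨fun i : Fin 5 => y ^ (i : ℕ) • p, fun i j h => Fin.ext (hinj i j i.2 j.2 h)⟩ ?_
      intro i
      show u • y ^ (i : ℕ) • p = y ^ (i : ℕ) • p
      rw [← mul_smul, hcomm, mul_smul, hup']
  have hF2 : F.ncard = 2 := by rw [hFab, Set.ncard_pair hab]
  rw [S.cardΔ, hF2] at hfree
  rw [← Subgroup.index_mul_card (stabilizer ↥C a)]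
  exact Nat.mul_dvd_mul hidx hfree

theorem Sh.norm_five (S : Sh L Δ) {x : L} (hx : orderOf x = 5) :
    Nat.card (normalizer ((zpowers x : Subgroup L) : Set L)) ∣ 40 := by
  have := S.finL
  have hp : Fact (Nat.Prime 5) := ⟨by norm_num⟩
  have hc : Nat.card (zpowers x) = 5 := by rw [Nat.card_zpowers, hx]
  obtain ⟨j, hj, h1⟩ := Cfsg.Agent.H858.NormC.exists_card_normalizer_prime (by norm_num) hc
  rw [cent_zpowers] at h1
  have h5 := Cfsg.Agent.H858.NormC.index_normalizer_modEq (p := 5) (P := zpowers x)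
    (IsPGroup.of_card (n := 1) (by rw [hc, pow_one]))
    (Cfsg.Agent.H858.NormC.not_dvd_index hc (by rw [S.cardL]; norm_num))
  have h6 := (normalizer ((zpowers x : Subgroup L) : Set L)).card_mul_index
  rw [S.cardL] at h6
  have hcd := S.cent_five hx
  have h5d : 5 ∣ Nat.card ↥(centralizer ({x} : Set L)) := by
    rw [← hx]
    exact Subgroup.orderOf_dvd_natCard _ (mem_centralizer_singleton_iff.2 rfl)
  obtain ⟨c, hcc⟩ := h5d
  rw [hcc] at hcd h1
  have hcd' : c ∣ 4 := by
    have : 5 * c ∣ 5 * 4 := hcd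
    exact Nat.dvd_of_mul_dvd_mul_left (by norm_num) this
  have hj'' : j = 1 ∨ j = 2 ∨ j = 4 := by
    have hj' : j ∈ Nat.divisors 4 := Nat.mem_divisors.2 ⟨hj, by norm_num⟩
    have : Nat.divisors 4 = {1, 2, 4} := by decide
    rw [this] at hj'
    simpa using hj'
  have hc'' : c = 1 ∨ c = 2 ∨ c = 4 := by
    have hj' : c ∈ Nat.divisors 4 := Nat.mem_divisors.2 ⟨hcd', by norm_num⟩
    have : Nat.divisors 4 = {1, 2, 4} := by decide
    rw [this] at hj'
    simpa using hj'
  unfold Nat.ModEq at h5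
  rcases hj'' with rfl | rfl | rfl <;> rcases hc'' with rfl | rfl | rfl <;> norm_num at h1 <;> rw [h1] at h6 ⊢ <;>
    first | (norm_num; done) | (exfalso; omega)

/-! ### no subgroup of index 55 -/

/-- three fixed points -/
def P3 (H : Subgroup L) (a b c : Δ) : Prop := ∀ g : L, g • a = a → g • b = b → g • c = c → g ∈ H

theorem Sh.exists_fix4 (S : Sh L Δ) {a b c d p q : Δ} (hab : a ≠ b) (hac : a ≠ c) (had : a ≠ d) (hbc : b ≠ c)
    (hbd : b ≠ d) (hcd : c ≠ d) (hp : p ≠ a ∧ p ≠ b ∧ p ≠ c ∧ p ≠ d) (hq : q ≠ a ∧ q ≠ b ∧ q ≠ c ∧ q ≠ d) :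
    ∃ g : L, g • a = a ∧ g • b = b ∧ g • c = c ∧ g • d = d ∧ g • p = q := by
  have := S.five
  have mk : ∀ r : Δ, (r ≠ a ∧ r ≠ b ∧ r ≠ c ∧ r ≠ d) →
      ∃ x : Fin 5 ↪ Δ, x 0 = a ∧ x 1 = b ∧ x 2 = c ∧ x 3 = d ∧ x 4 = r := by
    rintro r ⟨h1, h2, h3, h4⟩
    refine ⟨⟨![a, b, c, d, r], ?_⟩, rfl, rfl, rfl, rfl, rfl⟩
    intro i j h
    have h1' := h1.symm
    have h2' := h2.symm
    have h3' := h3.symm
    have h4' := h4.symm
    have hab' := hab.symm
    have hac' := hac.symm
    have had' := had.symm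
    have hbc' := hbc.symm
    have hbd' := hbd.symm
    have hcd' := hcd.symm
    fin_cases i <;> fin_cases j <;> simp_all
  obtain ⟨x, hx0, hx1, hx2, hx3, hx4⟩ := mk p hp
  obtain ⟨y, hy0, hy1, hy2, hy3, hy4⟩ := mk q hq
  obtain ⟨g, hg⟩ := (isMultiplyPretransitive_iff.mp S.five) x y
  have hg' : ∀ i, g • x i = y i := fun i => by rw [← hg]; rfl
  exact ⟨g, by rw [← hx0, hg', hy0, hx0], by rw [← hx1, hg', hy1, hx1], by rw [← hx2, hg', hy2, hx2],
    by rw [← hx3, hg', hy3, hx3], by rw [← hx4, hg', hy4]⟩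

theorem Sh.exists_not_mem (S : Sh L Δ) (s : Set Δ) (hs : s.ncard ≤ 11) : ∃ p, p ∉ s := by
  have := S.finΔ
  by_contra hcon
  push Not at hcon
  have h1 : s = Set.univ := Set.eq_univ_of_forall hcon
  rw [h1, Set.ncard_univ, S.cardΔ] at hs
  omega

theorem Sh.contr (S : Sh L Δ) {H : Subgroup L} (hst : ∀ u : Δ, Nat.card ↥(H ⊓ stabilizer L u) = 144)
    {s t v w : Δ} (h1 : s ≠ t) (h2 : s ≠ v) (h3 : s ≠ w) (h4 : t ≠ v) (h5 : t ≠ w) (h6 : v ≠ w)
    (hv : P3 H s t v) (hw : P3 H s t w) : False := by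
  have := S.finΔ
  have := S.finL
  classical
  have key : ∀ a b : Δ, s ≠ a → t ≠ a → s ≠ b → t ≠ b → a ≠ b → P3 H s t a → ∀ p q : Δ,
      (p ≠ s ∧ p ≠ t ∧ p ≠ a) → (q ≠ s ∧ q ≠ t ∧ q ≠ a) → ∃ g ∈ H, g • s = s ∧ g • p = q := by
    intro a b ha1 ha2 hb1 hb2 hab hP p q hp hq
    by_cases hpq : p = q
    · exact ⟨1, one_mem _, one_smul _ _, by rw [one_smul, hpq]⟩
    -- a fourth fixed point
    have hs5 : ({s, t, a, p, q} : Set Δ).ncard ≤ 11 := by
      have e1 := Set.ncard_insert_le s ({t, a, p, q} : Set Δ)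
      have e2 := Set.ncard_insert_le t ({a, p, q} : Set Δ)
      have e3 := Set.ncard_insert_le a ({p, q} : Set Δ)
      have e4 := Set.ncard_insert_le p ({q} : Set Δ)
      rw [Set.ncard_singleton] at e4
      omega
    obtain ⟨d, hd⟩ := S.exists_not_mem _ hs5
    simp only [Set.mem_insert_iff, Set.mem_singleton_iff, not_or] at hd
    obtain ⟨g, g1, g2, g3, -, g5⟩ := S.exists_fix4 (a := s) (b := t) (c := a) (d := d) (p := p) (q := q) h1 ha1
      (Ne.symm hd.1) ha2 (Ne.symm hd.2.1) (Ne.symm hd.2.2.1) ⟨hp.1, hp.2.1, hp.2.2, Ne.symm hd.2.2.2.1⟩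
      ⟨hq.1, hq.2.1, hq.2.2, Ne.symm hd.2.2.2.2⟩
    exact ⟨g, hP g g1 g2 g3, g1, g5⟩
  -- a fifth point
  obtain ⟨r, hr⟩ := S.exists_not_mem {s, t, v, w} (by
    have e1 := Set.ncard_insert_le s ({t, v, w} : Set Δ)
    have e2 := Set.ncard_insert_le t ({v, w} : Set Δ)
    have e3 := Set.ncard_insert_le v ({w} : Set Δ)
    rw [Set.ncard_singleton] at e3
    omega)
  simp only [Set.mem_insert_iff, Set.mem_singleton_iff, not_or] at hr
  -- the orbit of `r` contains all points except possibly `s`, `t`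
  have horb : ({s, t} : Set Δ)ᶜ ⊆ orbit ↥(H ⊓ stabilizer L s) r := by
    intro q hq
    simp only [Set.mem_compl_iff, Set.mem_insert_iff, Set.mem_singleton_iff, not_or] at hq
    by_cases hqv : q = v
    · obtain ⟨g, hg, g1, g2⟩ := key w v h3 h5 h2 h4 (Ne.symm h6) hw r q ⟨hr.1, hr.2.1, hr.2.2.2⟩
        ⟨hq.1, hq.2, by rw [hqv]; exact h6⟩
      exact ⟨⟨g, hg, g1⟩, g2⟩
    · obtain ⟨g, hg, g1, g2⟩ := key v w h2 h4 h3 h5 h6 hv r q ⟨hr.1, hr.2.1, hr.2.2.1⟩ ⟨hq.1, hq.2, hqv⟩
      exact ⟨⟨g, hg, g1⟩, g2⟩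
  have hle1 : 10 ≤ (orbit ↥(H ⊓ stabilizer L s) r).ncard := by
    have e1 := Set.ncard_le_ncard horb (Set.toFinite _)
    rw [Set.ncard_compl, S.cardΔ, Set.ncard_pair h1] at e1
    exact e1
  have hle2 : (orbit ↥(H ⊓ stabilizer L s) r).ncard ≤ 11 := by
    have e1 : orbit ↥(H ⊓ stabilizer L s) r ⊆ ({s} : Set Δ)ᶜ := by
      rintro _ ⟨⟨g, hg, g1⟩, rfl⟩ h
      have h7 : g • r = s := h
      have g1' : g • s = s := g1
      rw [← g1'] at h7
      exact hr.1 (smul_left_cancel g h7)
    have e2 := Set.ncard_le_ncard e1 (Set.toFinite _)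
    rw [Set.ncard_compl, S.cardΔ, Set.ncard_singleton] at e2
    exact e2
  have hdvd : (orbit ↥(H ⊓ stabilizer L s) r).ncard ∣ 144 := by
    rw [← hst s, ← MulAction.index_stabilizer]
    exact Subgroup.index_dvd_card _
  rcases (show (orbit ↥(H ⊓ stabilizer L s) r).ncard = 10 ∨ (orbit ↥(H ⊓ stabilizer L s) r).ncard = 11 by omega)
    with h | h <;> rw [h] at hdvd <;> norm_num at hdvd

theorem Sh.card_stab3 (S : Sh L Δ) {a b c : Δ} (hab : a ≠ b) (hac : a ≠ c) (hbc : b ≠ c) :
    Nat.card ↥(stabilizer L a ⊓ stabilizer L b ⊓ stabilizer L c) = 72 := by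
  have := S.finL
  have := S.finΔ
  classical
  have := Fintype.ofFinite Δ
  have hc : Fintype.card Δ = 12 := by rw [← Nat.card_eq_fintype_card, S.cardΔ]
  have := S.five
  have h3 : IsMultiplyPretransitive L Δ 3 := isMultiplyPretransitive_of_le (n := 5) (by omega) (by rw [S.cardΔ]; norm_num)
  obtain ⟨x, hx0, hx1, hx2⟩ := S0699.exists_embedding a b c hab hac hbc
  have h1 := MulAction.index_stabilizer_of_transitive L x
  rw [Nat.card_eq_fintype_card (α := Fin 3 ↪ Δ), Fintype.card_embedding_eq, Fintype.card_fin, hc] at h1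
  have h2 := (stabilizer L x).card_mul_index
  rw [h1, S.cardL] at h2
  have h4 : Nat.descFactorial 12 3 = 1320 := by decide
  rw [h4] at h2
  have h5 : stabilizer L x = stabilizer L a ⊓ stabilizer L b ⊓ stabilizer L c := by
    ext g
    rw [mem_inf, mem_inf, mem_stabilizer_iff, mem_stabilizer_iff, mem_stabilizer_iff, mem_stabilizer_iff]
    constructor
    · intro h
      have h6 : ∀ i, g • x i = x i := fun i => DFunLike.congr_fun h i
      exact ⟨⟨by rw [← hx0, h6], by rw [← hx1, h6]⟩, by rw [← hx2, h6]⟩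
    · rintro ⟨⟨h6, h7⟩, h8⟩
      ext i
      fin_cases i
      · show g • x 0 = x 0
        rw [hx0, h6]
      · show g • x 1 = x 1
        rw [hx1, h7]
      · show g • x 2 = x 2
        rw [hx2, h8]
  rw [← h5]
  omega

theorem Sh.card_stab1 (S : Sh L Δ) (a : Δ) : Nat.card (stabilizer L a) = 7920 := by
  have := S.finL
  have := S.finΔ
  have := S.five
  have h2 : IsMultiplyPretransitive L Δ 2 := isMultiplyPretransitive_of_le (n := 5) (by omega) (by rw [S.cardΔ]; norm_num)
  have h1 : IsPretransitive L Δ := isPretransitive_of_is_two_pretransitive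
  have h3 := MulAction.index_stabilizer_of_transitive L a
  have h4 := (stabilizer L a).card_mul_index
  rw [h3, S.cardΔ, S.cardL] at h4
  omega

/-- **Claim 2** -/
theorem Sh.claim (S : Sh L Δ) {H : Subgroup L} (hst : ∀ u : Δ, Nat.card ↥(H ⊓ stabilizer L u) = 144) (u : Δ) :
    ∃ y z : Δ, u ≠ y ∧ u ≠ z ∧ y ≠ z ∧ (∀ g ∈ H, g • u = u → (g • y = y ∨ g • y = z) ∧ (g • z = y ∨ g • z = z)) ∧
      P3 H u y z := by
  have := S.finL
  have := S.finΔ
  classical
  have hp3 : Fact (Nat.Prime 3) := ⟨by norm_num⟩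
  -- a subgroup of order 9
  obtain ⟨R₀, hR₀⟩ := Sylow.exists_subgroup_card_pow_prime (G := ↥(H ⊓ stabilizer L u)) 3 (n := 2)
    (by rw [hst]; norm_num)
  set R : Subgroup L := R₀.map (H ⊓ stabilizer L u).subtype with hR
  have hRle : R ≤ H ⊓ stabilizer L u := by rw [hR]; exact map_subtype_le _
  have hRcard : Nat.card R = 9 := by
    rw [hR, ← Nat.card_congr (R₀.equivMapOfInjective _ (H ⊓ stabilizer L u).subtype_injective).toEquiv, hR₀]
    norm_num
  have hRp : IsPGroup 3 ↥R := IsPGroup.of_card (n := 2) (by rw [hRcard]; norm_num)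
  have hRne : R ≠ ⊥ := by
    intro h
    rw [h, Subgroup.card_bot] at hRcard
    omega
  have h1 := S.card_fix_mod hRp
  have h2 := S.card_fix_le hRne
  have hu : u ∈ fixedPoints ↥R Δ := fun r => (hRle r.2).2
  have h3 : 0 < Nat.card (fixedPoints ↥R Δ) := by
    rw [Nat.card_coe_set_eq, Set.ncard_pos (Set.toFinite _)]
    exact ⟨u, hu⟩
  have h4 : (fixedPoints ↥R Δ).ncard = 3 := by
    rw [← Nat.card_coe_set_eq]
    unfold Nat.ModEq at h1
    omega
  have h5 : ((fixedPoints ↥R Δ) \ {u}).ncard = 2 := by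
    rw [Set.ncard_sdiff_singleton_of_mem hu, h4]
  obtain ⟨y, z, hyz, hset⟩ := Set.ncard_eq_two.1 h5
  have hy : y ∈ (fixedPoints ↥R Δ) \ {u} := by rw [hset]; exact Set.mem_insert _ _
  have hz : z ∈ (fixedPoints ↥R Δ) \ {u} := by rw [hset]; exact Set.mem_insert_of_mem _ rfl
  have hfixiff : ∀ p, p ∈ fixedPoints ↥R Δ ↔ p = u ∨ p = y ∨ p = z := by
    intro p
    constructor
    · intro hp
      by_cases hpu : p = u
      · exact Or.inl hpu
      · right
        have : p ∈ (fixedPoints ↥R Δ) \ {u} := ⟨hp, hpu⟩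
        rw [hset] at this
        exact this
    · rintro (rfl | rfl | rfl)
      · exact hu
      · exact hy.1
      · exact hz.1
  have huy : u ≠ y := fun h => hy.2 h.symm
  have huz : u ≠ z := fun h => hz.2 h.symm
  -- `R` is free on the other points
  have hfree : ∀ p, p ∉ fixedPoints ↥R Δ → ∀ r ∈ R, r • p = p → r = 1 := by
    intro p hp r hr hrp
    by_contra hr1
    have hZ : zpowers r ≠ ⊥ := by rwa [ne_eq, zpowers_eq_bot]
    have hZp : IsPGroup 3 ↥(zpowers r) := hRp.to_le (by rwa [zpowers_le])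
    have e1 := S.card_fix_mod hZp
    have e2 := S.card_fix_le hZ
    have hmem : ∀ q : Δ, r • q = q → q ∈ fixedPoints ↥(zpowers r) Δ := by
      rintro q hq ⟨k, hk⟩
      obtain ⟨m, rfl⟩ := mem_zpowers_iff.1 hk
      have h12 : r ∈ stabilizer L q := hq
      exact (stabilizer L q).zpow_mem h12 m
    have e3 : insert p (fixedPoints ↥R Δ) ⊆ fixedPoints ↥(zpowers r) Δ := by
      rintro q (rfl | hq)
      · exact hmem _ hrp
      · exact hmem _ (hq ⟨r, hr⟩)
    have e4 := Set.ncard_le_ncard e3 (Set.toFinite _)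
    rw [Set.ncard_insert_of_notMem hp (Set.toFinite _), h4, ← Nat.card_coe_set_eq (s := fixedPoints ↥(zpowers r) Δ)] at e4
    unfold Nat.ModEq at e1
    omega
  -- the orbits of `H_u`
  have horb : ∀ p, p ∉ fixedPoints ↥R Δ → orbit ↥(H ⊓ stabilizer L u) p = (fixedPoints ↥R Δ)ᶜ := by
    intro p hp
    have e1 : (orbit ↥R p).ncard = 9 := by
      rw [← MulAction.index_stabilizer]
      have : stabilizer ↥R p = ⊥ := by
        rw [Subgroup.eq_bot_iff_forall]
        rintro ⟨r, hr⟩ hrp
        exact Subtype.ext (hfree p hp r hr hrp)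
      rw [this, Subgroup.index_bot, hRcard]
    have e2 : orbit ↥R p ⊆ (fixedPoints ↥R Δ)ᶜ := by
      rintro _ ⟨⟨r, hr⟩, rfl⟩ hq
      apply hp
      have hq' : r • p ∈ fixedPoints ↥R Δ := hq
      have e5 : r⁻¹ • r • p = r • p := hq' ⟨r⁻¹, inv_mem hr⟩
      rw [inv_smul_smul] at e5
      rw [e5]
      exact hq'
    have e3 : ((fixedPoints ↥R Δ)ᶜ : Set Δ).ncard = 9 := by rw [Set.ncard_compl, S.cardΔ, h4]
    have e4 : orbit ↥R p = (fixedPoints ↥R Δ)ᶜ := Set.eq_of_subset_of_ncard_le e2 (by rw [e1, e3]) (Set.toFinite _)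
    have e5 : (fixedPoints ↥R Δ)ᶜ ⊆ orbit ↥(H ⊓ stabilizer L u) p := by
      rw [← e4]
      rintro _ ⟨⟨r, hr⟩, rfl⟩
      exact ⟨⟨r, hRle hr⟩, rfl⟩
    have e6 : orbit ↥(H ⊓ stabilizer L u) p ⊆ ({u} : Set Δ)ᶜ := by
      rintro _ ⟨⟨g, hg, g1⟩, rfl⟩ h
      have h7 : g • p = u := h
      have g1' : g • u = u := g1
      have h8 : p = u := smul_left_cancel g (h7.trans g1'.symm)
      rw [h8] at hp
      exact hp hu
    have e7 := Set.ncard_le_ncard e5 (Set.toFinite _)
    have e8 := Set.ncard_le_ncard e6 (Set.toFinite _)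
    rw [Set.ncard_compl, S.cardΔ, Set.ncard_singleton] at e8
    rw [e3] at e7
    have hdvd : (orbit ↥(H ⊓ stabilizer L u) p).ncard ∣ 144 := by
      rw [← hst u, ← MulAction.index_stabilizer]
      exact Subgroup.index_dvd_card _
    have e9 : (orbit ↥(H ⊓ stabilizer L u) p).ncard = 9 := by
      rcases (show (orbit ↥(H ⊓ stabilizer L u) p).ncard = 9 ∨ (orbit ↥(H ⊓ stabilizer L u) p).ncard = 10 ∨
        (orbit ↥(H ⊓ stabilizer L u) p).ncard = 11 by omega) with h | h | h
      · exact h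
      · rw [h] at hdvd; norm_num at hdvd
      · rw [h] at hdvd; norm_num at hdvd
    exact (Set.eq_of_subset_of_ncard_le e5 (by rw [e3, e9]) (Set.toFinite _)).symm
  have hinv : ∀ g ∈ H, g • u = u → ∀ q, q ∈ fixedPoints ↥R Δ → g • q ∈ fixedPoints ↥R Δ := by
    intro g hg hgu q hq
    by_contra hcon
    have e1 := horb (g • q) hcon
    have e2 : q ∈ orbit ↥(H ⊓ stabilizer L u) (g • q) :=
      ⟨⟨g⁻¹, H.inv_mem hg, by show g⁻¹ • u = u; rw [inv_smul_eq_iff, hgu]⟩, inv_smul_smul g q⟩
    rw [e1] at e2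
    exact e2 hq
  have hinv2 : ∀ g ∈ H, g • u = u → (g • y = y ∨ g • y = z) ∧ (g • z = y ∨ g • z = z) := by
    intro g hg hgu
    have e1 := (hfixiff _).1 (hinv g hg hgu y hy.1)
    have e2 := (hfixiff _).1 (hinv g hg hgu z hz.1)
    refine ⟨e1.resolve_left ?_, e2.resolve_left ?_⟩
    · intro h
      exact huy (smul_left_cancel g (hgu.trans h.symm))
    · intro h
      exact huz (smul_left_cancel g (hgu.trans h.symm))
  refine ⟨y, z, huy, huz, hyz, hinv2, ?_⟩
  -- the pointwise stabilizer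
  set K := stabilizer ↥(H ⊓ stabilizer L u) y with hK
  have hidx : K.index ≤ 2 := by
    rw [hK, MulAction.index_stabilizer]
    have e4 : orbit ↥(H ⊓ stabilizer L u) y ⊆ {y, z} := by
      rintro _ ⟨⟨g, hg, g1⟩, rfl⟩
      exact (hinv2 g hg g1).1
    exact (Set.ncard_le_ncard e4 (Set.toFinite _)).trans (by rw [Set.ncard_pair hyz])
  have hcardK : 72 ≤ Nat.card K := by
    have e1 := K.card_mul_index
    rw [hst u] at e1
    have e2 : 0 < Nat.card K := Nat.card_pos
    nlinarith
  let f : ↥K → ↥(stabilizer L u ⊓ stabilizer L y ⊓ stabilizer L z) := fun k =>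
    ⟨k.1.1, ⟨⟨k.1.2.2, k.2⟩, by
      have e1 : (k.1.1 : L) • y = y := k.2
      rcases (hinv2 k.1.1 k.1.2.1 k.1.2.2).2 with h | h
      · exact absurd (smul_left_cancel k.1.1 (h.trans e1.symm)) (Ne.symm hyz)
      · exact h⟩⟩
  have hf : Function.Injective f := by
    intro k k' h
    have : (f k : L) = f k' := by rw [h]
    exact Subtype.ext (Subtype.ext this)
  have hsurj : Function.Surjective f := by
    have e1 := S.card_stab3 huy huz hyz
    exact ((Nat.bijective_iff_injective_and_card f).2 ⟨hf, le_antisymm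
      (Nat.card_le_card_of_injective f hf) (by rw [e1]; exact hcardK)⟩).2
  intro g g1 g2 g3
  obtain ⟨k, hk⟩ := hsurj ⟨g, ⟨g1, g2⟩, g3⟩
  have : (k.1.1 : L) = g := congrArg Subtype.val hk
  rw [← this]
  exact k.1.2.1

/-- **No subgroup of index 55.** -/
theorem Sh.no_55 (S : Sh L Δ) (H : Subgroup L) : H.index ≠ 55 := by
  intro hidx
  have := S.finL
  have := S.finΔ
  have hH : Nat.card H = 1728 := by
    have h1 := H.card_mul_index
    rw [hidx, S.cardL] at h1
    omega
  have hst : ∀ u : Δ, Nat.card ↥(H ⊓ stabilizer L u) = 144 := by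
    intro u
    have h1 : Nat.card ↥(H ⊓ stabilizer L u) ∣ 144 := by
      have e1 : Nat.card ↥(H ⊓ stabilizer L u) ∣ 1728 := hH ▸ Subgroup.card_dvd_of_le inf_le_left
      have e2 : Nat.card ↥(H ⊓ stabilizer L u) ∣ 7920 := S.card_stab1 u ▸ Subgroup.card_dvd_of_le inf_le_right
      exact Nat.dvd_gcd e1 e2
    have h2 : Nat.card (stabilizer ↥H u) = Nat.card ↥(H ⊓ stabilizer L u) := by
      refine Nat.card_congr ⟨fun g => ⟨g.1.1, g.1.2, g.2⟩, fun g => ⟨⟨g.1, g.2.1⟩, g.2.2⟩, fun _ => rfl, fun _ => rfl⟩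
    have h3 := (stabilizer ↥H u).card_mul_index
    rw [MulAction.index_stabilizer, hH, h2] at h3
    have h4 : (orbit ↥H u).ncard ≤ 12 := by
      rw [← S.cardΔ, ← Set.ncard_univ]
      exact Set.ncard_le_ncard (Set.subset_univ _) (Set.toFinite _)
    have h5 := Nat.le_of_dvd (by norm_num) h1
    nlinarith
  obtain ⟨x, -⟩ := S.exists_not_mem ∅ (by simp)
  obtain ⟨y, z, hxy, hxz, hyz, -, hP⟩ := S.claim hst x
  obtain ⟨w, hw⟩ := S.exists_not_mem {x, y, z} (by
    have e1 := Set.ncard_insert_le x ({y, z} : Set Δ)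
    have e2 := Set.ncard_insert_le y ({z} : Set Δ)
    rw [Set.ncard_singleton] at e2
    omega)
  simp only [Set.mem_insert_iff, Set.mem_singleton_iff, not_or] at hw
  obtain ⟨hwx, hwy, hwz⟩ := hw
  obtain ⟨s, t, hws, hwt, hst', hinv, hPw⟩ := S.claim hst w
  -- `s, t` belong to `{x, y, z}`
  have key : ∀ a b : Δ, w ≠ a → w ≠ b → (∀ g ∈ H, g • w = w → (g • a = a ∨ g • a = b)) → a = x ∨ a = y ∨ a = z := by
    intro a b hwa hwb hab
    by_contra hcon
    push Not at hcon
    obtain ⟨q, hq⟩ := S.exists_not_mem {x, y, z, w, a, b} (by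
      have e1 := Set.ncard_insert_le x ({y, z, w, a, b} : Set Δ)
      have e2 := Set.ncard_insert_le y ({z, w, a, b} : Set Δ)
      have e3 := Set.ncard_insert_le z ({w, a, b} : Set Δ)
      have e4 := Set.ncard_insert_le w ({a, b} : Set Δ)
      have e5 := Set.ncard_insert_le a ({b} : Set Δ)
      rw [Set.ncard_singleton] at e5
      omega)
    simp only [Set.mem_insert_iff, Set.mem_singleton_iff, not_or] at hq
    obtain ⟨g, g1, g2, g3, g4, g5⟩ := S.exists_fix4 (a := x) (b := y) (c := z) (d := w) (p := a) (q := q) hxy hxz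
      (Ne.symm hwx) hyz (Ne.symm hwy) (Ne.symm hwz) ⟨hcon.1, hcon.2.1, hcon.2.2, Ne.symm hwa⟩
      ⟨hq.1, hq.2.1, hq.2.2.1, hq.2.2.2.1⟩
    rcases hab g (hP g g1 g2 g3) g4 with h | h
    · rw [g5] at h; exact hq.2.2.2.2.1 h
    · rw [g5] at h; exact hq.2.2.2.2.2 h
  have hs := key s t hws hwt fun g hg hgw => (hinv g hg hgw).1
  have ht := key t s hwt hws fun g hg hgw => (hinv g hg hgw).2.symm
  have hPw' : P3 H s t w := fun g g1 g2 g3 => hPw g g3 g1 g2
  rcases hs with rfl | rfl | rfl <;> rcases ht with rfl | rfl | rfl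
  · exact hst' rfl
  · exact S.contr hst hxy hxz (Ne.symm hwx) hyz (Ne.symm hwy) (Ne.symm hwz) hP hPw'
  · exact S.contr hst hxz hxy (Ne.symm hwx) (Ne.symm hyz) (Ne.symm hwz) (Ne.symm hwy)
      (fun g g1 g2 g3 => hP g g1 g3 g2) hPw'
  · exact S.contr hst (Ne.symm hxy) hyz (Ne.symm hwy) hxz (Ne.symm hwx) (Ne.symm hwz)
      (fun g g1 g2 g3 => hP g g2 g1 g3) hPw'
  · exact hst' rfl
  · exact S.contr hst hyz (Ne.symm hxy) (Ne.symm hwy) (Ne.symm hxz) (Ne.symm hwz) (Ne.symm hwx)
      (fun g g1 g2 g3 => hP g g3 g1 g2) hPw'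
  · exact S.contr hst (Ne.symm hxz) (Ne.symm hyz) (Ne.symm hwz) hxy (Ne.symm hwx) (Ne.symm hwy)
      (fun g g1 g2 g3 => hP g g2 g3 g1) hPw'
  · exact S.contr hst (Ne.symm hyz) (Ne.symm hxz) (Ne.symm hwz) (Ne.symm hxy) (Ne.symm hwy) (Ne.symm hwx)
      (fun g g1 g2 g3 => hP g g3 g2 g1) hPw'
  · exact hst' rfl

end Cfsg.Agent.H354.SharpFive
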