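import Cfsg.Agent.H354.RankThreeCls
import Cfsg.Agent.H510.TwoTool
import Cfsg.Agent.NotCT.Orders
import Cfsg.Agent.S2080
import Cfsg.Agent.Schreier.FiTwentyThree

/-!
# `Fi23` has no 2-transitive action (helper354, HUB H1 part P11)

Only the class of the 31671 transpositions (rank 3) is used.
-/

set_option autoImplicit false
set_option maxRecDepth 10000

namespace Cfsg.Agent.H354.TwoFi23

open MulAction Subgroup Cfsg.Agent.H384.TwoTrans Cfsg Cfsg.Agent.H510.TwoCore Cfsg.Agent.H354.RankThree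
open Cfsg.Agent.Fischer.Abstract
open Cfsg.Agent.Fischer.Group22 Cfsg.Agent.Fischer.Rank22 Cfsg.Agent.Fischer.Centralizer
open Cfsg.Agent.Schreier.FiCommon Cfsg.Agent.Schreier.FiTwentyThree
open Cfsg.Agent.Fischer.Fi23Class (K)
open Cfsg.Agent.Fischer.Fi23Z (z0)

universe u v

theorem chk : allB (fun n => Nat.blt 31671 (n - 1) || (!(feas 31671 3510 28160 n) || [2, 31671, 31672].contains n)) 15 2 =
    true := by
  decide +kernel

theorem cls : ∃ D : Set Spor.Fi23, Cls Spor.Fi23 D 31671 3510 28160 := by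
  have hfin : Finite Spor.Fi23 := R08.FiTwentyThree.finite_fi23
  have f11 : Fact (Nat.Prime 11) := ⟨by norm_num⟩
  obtain ⟨Q, hQ0, hQx, hQD⟩ := R08.FiTwentyThree.exists_rank3
  obtain ⟨x, hx, hρx, hρC⟩ := exists_x
  obtain ⟨k0, hk0, hρk0⟩ := exists_S R.x0
  have hmemK : ∀ g : Spor.Fi23, g • Q.x0 = Q.x0 ↔ g ∈ K := by
    intro g
    rw [← Q.mem_centralizer_iff, hQ0, Subgroup.mem_centralizer_singleton_iff, R08.FiTwentyThree.mem_K_iff]
  have hxk : x * k0 = k0 * x := by
    have h1 : x * k0 * x⁻¹ ∈ R08.FiTwentyThree.S := R08.FiTwentyThree.lifted.conj x k0 hk0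
    have h2 : x * k0 * x⁻¹ = k0 := by
      apply inj_S h1 hk0
      rw [map_mul, map_mul, map_inv, hρk0, ← R.map_smul, (mem_C_iff R _).1 hρC]
    exact mul_inv_eq_iff_eq_mul.1 h2
  set c0 : Spor.Fi23 := (k0 : Spor.Fi23) with hc0
  have hxc : (x : Spor.Fi23) * c0 = c0 * x := congrArg Subtype.val hxk
  have hc0D : c0 ∈ R08.FiTwentyThree.D := hk0.1
  have hc0z : c0 ≠ z0 := hk0.2
  have hzc : z0 * c0 = c0 * z0 := ((R08.FiTwentyThree.mem_K_iff _).1 k0.2).symm
  have hx11 : orderOf (x : Spor.Fi23) = 11 := by rw [Subgroup.orderOf_coe, hx]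
  have hfixpt : ∀ y, (x : Spor.Fi23) * Q.t y = Q.t y * x → (x : Spor.Fi23) • y = y := by
    intro y hy
    apply Q.t_injective
    rw [Q.map_smul, hy, mul_inv_cancel_right]
  have horb : (MulAction.orbit K Q.b).ncard = 28160 := by
    obtain ⟨q₁, q, -, hq⟩ := Cfsg.Agent.SporRec.Fi23Index.orbits
    rcases Q.rank3 q with h0 | ⟨h, hh, hh2⟩ | ⟨h, hh, hh2⟩
    · exfalso
      have h1 : MulAction.orbit K q = {q} := by
        ext y
        rw [Set.mem_singleton_iff]
        constructor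
        · rintro ⟨k, rfl⟩
          rw [h0]
          exact (hmemK k).2 k.2
        · rintro rfl
          exact MulAction.mem_orbit_self _
      rw [h1, Set.ncard_singleton] at hq
      norm_num at hq
    · exfalso
      have h1 : MulAction.orbit K q = MulAction.orbit K Q.c := by
        rw [MulAction.orbit_eq_iff]
        exact ⟨⟨h, (hmemK h).1 hh⟩, hh2⟩
      rw [h1] at hq
      have h2 : c0 ∈ Set.range Q.t := by rw [hQD]; exact hc0D
      obtain ⟨y, hy⟩ := h2
      have h3 : Q.Com Q.x0 y := by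
        rw [Q.com_def, hQ0, hy]; exact hzc
      have h4 : y ≠ Q.x0 := by
        rintro rfl
        exact hc0z (hy.symm.trans hQ0)
      obtain ⟨l, hl, hly⟩ := (Q.com_x0_iff.1 h3).resolve_left h4
      refine false_of_fix K Q.c hq (by norm_num) (m := 4585351680) ?_ (p := 11) (by norm_num) x.2 hx11
        ((hmemK l).1 hl) ?_
      · rw [R01.AlphaFi23.card_K]
      · rw [hly]
        apply hfixpt
        rw [hy]
        exact hxc
    · have h1 : MulAction.orbit K q = MulAction.orbit K Q.b := by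
        rw [MulAction.orbit_eq_iff]
        exact ⟨⟨h, (hmemK h).1 hh⟩, hh2⟩
      rw [← h1, hq]
  refine ⟨Set.range Q.t, cls_of_rank3 Q ?_ (by norm_num) ?_ ?_ (by norm_num)⟩
  · rw [← Subgroup.index_eq_card]
    exact R01.AlphaFi23.index_K
  · rintro φ _ ⟨y, rfl⟩
    obtain ⟨g, rfl⟩ := Cfsg.Agent.KFacts.FiTTh.Has.inn φ
    exact ⟨g • y, Q.map_smul g y⟩
  · rw [← horb]
    congr 1
    ext y
    constructor
    · rintro ⟨h, hh, rfl⟩
      exact ⟨⟨h, (hmemK h).1 hh⟩, rfl⟩
    · rintro ⟨⟨h, hh⟩, rfl⟩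
      exact ⟨h, (hmemK h).2 hh, rfl⟩

variable {G : Type u} {Ω : Type v} [Group G] [MulAction G Ω] {T : Subgroup G}

/-- **Row `Fi23` of HUB H1.** -/
theorem row (A : AS G Ω T) (h : Spor.IsoFi23 ↥T) : False := by
  have hN := NotCT.Orders.fi23 h
  obtain ⟨e⟩ := h
  obtain ⟨D, hD⟩ := cls
  have h1 := mem_list A (hD.congr e) (by norm_num) (by norm_num) (by norm_num) (s := 15) (by norm_num) chk
  have h2 := deg_dvd A (e := 1) one_le_two (out_le e Cfsg.Agent.S2080.result) hN
  have h3 := A.five_le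
  simp only [List.mem_cons, List.not_mem_nil, or_false] at h1
  rcases h1 with h1 | h1 | h1
  · omega
  · rw [h1] at h2
    revert h2
    decide +kernel
  · rw [h1] at h2
    revert h2
    decide +kernel

end Cfsg.Agent.H354.TwoFi23
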