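import Cfsg.Agent.H354.SporTools
import Cfsg.Agent.SporadicA.M11Sylow
import Cfsg.Agent.SporadicA.MathieuRecog
import Cfsg.Agent.HNType.Alt
import Cfsg.Agent.S2060

/-!
# HUB H1, P11: `M11` (helper354)
-/

set_option autoImplicit false

namespace Cfsg.Agent.H354.TwoM11

open Subgroup MulAction Cfsg.Agent.H384.TwoTrans Cfsg.Agent.H970.StabNum Cfsg.Agent.H970.TwoSpor
  Cfsg.Agent.OrdDiv Cfsg.Agent.H354.Spor

universe u v

variable {G : Type u} {Ω : Type v} [Group G] [MulAction G Ω] {T : Subgroup G}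

def L : List (ℕ × ℕ) := [(2, 4), (3, 2), (5, 1), (11, 1)]
def tbl : List ℕ := [360, 60, 660, 7920]

theorem valid_L : valid L 7920 = true := by decide +kernel

theorem tbl_ok : ((cands L 7920).all fun g => tbl.contains (ordN g)) = true := by decide +kernel

theorem surv : survives 7920 1 [1] L [(11, 1, 5)] [2, 3, 5] tbl = [11, 12] := by decide +kernel

theorem data (Tb : OrderTable.{u}) (hS : ∀ (X : Type u) [Group X] [Finite X] [IsSimpleGroup X], Cfsg.IsKnownSimple' X)
    {T : Type u} [Group T] (hT : Cfsg.IsM11 T) : Data T [(11, 1, 5)] [2, 3, 5] tbl where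
  fin := Nat.finite_of_card_ne_zero (by rw [hT.2]; norm_num)
  lt := by rw [hT.2]; norm_num
  prime := by
    rw [hT.2]
    simp only [List.mem_singleton, forall_eq]
    norm_num
  cent := by
    simp only [List.mem_singleton, forall_eq]
    intro P hP
    obtain ⟨x, hx, rfl⟩ := exists_zpowers (by norm_num) P hP
    have : Finite T := Nat.finite_of_card_ne_zero (by rw [hT.2]; norm_num)
    obtain ⟨h1, h2, -⟩ := SporadicA.M11Sylow.data_eleven hT hx
    rw [cent_zpowers, h1, h2]
    exact ⟨dvd_refl _, dvd_refl _⟩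
  ps := by
    simp only [List.mem_cons, List.not_mem_nil, or_false]
    rintro r (rfl | rfl | rfl) <;> norm_num
  tbl := by
    intro K _ _ hK hna hd
    rw [hT.2] at hd
    exact mem_tbl Tb hS valid_L tbl_ok K hK hna hd

/-- **The row `M11`.** -/
theorem row (Tb : OrderTable.{u}) (hS : ∀ (X : Type u) [Group X] [Finite X] [IsSimpleGroup X], Cfsg.IsKnownSimple' X)
    (A : AS G Ω T) (h : Cfsg.Spor.IsoM11 ↥T) : Known2 ↥T (Nat.card Ω) := by
  have := A.finT
  obtain ⟨e⟩ := h
  have hcard : Nat.card ↥T = 7920 := (Nat.card_congr e.toEquiv).trans HNType.Alt.card_M11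
  have hT : Cfsg.IsM11 ↥T := ⟨A.simple, hcard⟩
  have ho : (MulAut.conj : ↥T →* MulAut ↥T).range.index ∣ 1 := by
    rw [index_inn_congr e]
    exact (show Nat.card (Cfsg.Out ↥Cfsg.Spor.M11) = 1 from S2060.result) ▸ dvd_refl _
  have h1 := mem_survives A (N := 7920) (out := 1) (js := [1]) (l := L) (data := [(11, 1, 5)]) (ps := [2, 3, 5])
    (tbl := tbl) hcard (card_dvd A ho) (by intro j hj; rw [Nat.dvd_one.1 hj]; exact List.mem_singleton_self _)
    valid_L (data Tb hS hT)
  rw [surv] at h1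
  simp only [List.mem_cons, List.not_mem_nil, or_false] at h1
  rcases h1 with h1 | h1
  · rw [h1]; exact .m11 ⟨e⟩
  · rw [h1]; exact .m11' ⟨e⟩

end Cfsg.Agent.H354.TwoM11
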