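import Cfsg.Agent.H354.SharpFive
import Cfsg.Agent.H419.Spor.M12
import Cfsg.Agent.MTwelveType.SylowModel
import Cfsg.Agent.S2061

/-!
# HUB H1, P11: `M12` (helper354)
-/

set_option autoImplicit false

namespace Cfsg.Agent.H354.TwoM12

open Subgroup MulAction Cfsg.Agent.H384.TwoTrans Cfsg.Agent.H970.StabNum Cfsg.Agent.H970.TwoSpor
  Cfsg.Agent.OrdDiv Cfsg.Agent.H354.Spor Cfsg.Agent.H354.SharpFive

universe u v

/-- the sharply 5-transitive action of a group isomorphic to `M12` -/
theorem exists_sh {T : Type u} [Group T] (h : Cfsg.Spor.IsoM12 T) : ∃ (Δ : Type) (_ : MulAction T Δ), Sh T Δ := by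
  obtain ⟨e⟩ := h
  have hcard : Nat.card T = 95040 := (Nat.card_congr e.toEquiv).trans MTwelveType.SylowModel.card_M12
  refine ⟨H419.Spor.M12.Pts, MulAction.compHom _ e.toMonoidHom, ?_⟩
  let : MulAction T H419.Spor.M12.Pts := MulAction.compHom _ e.toMonoidHom
  refine ⟨Nat.finite_of_card_ne_zero (by rw [hcard]; norm_num), inferInstance, ?_, ?_, hcard⟩
  · rw [Nat.card_eq_fintype_card]
    decide +kernel
  · constructor
    intro x y
    let x' : Fin 5 ↪ Cfsg.GolayPt := x.trans (Function.Embedding.subtype _)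
    let y' : Fin 5 ↪ Cfsg.GolayPt := y.trans (Function.Embedding.subtype _)
    obtain ⟨g, hg, -⟩ := Cfsg.Agent.S0384.result Cfsg.Spor.squareDodecad Cfsg.Agent.Schreier.MEleven.squareDodecad_mem x' y'
      (fun i => (x i).2) (fun i => (y i).2)
    refine ⟨e.symm ⟨g.1.1, g.1.2, g.2⟩, ?_⟩
    apply DFunLike.ext
    intro i
    show e (e.symm ⟨g.1.1, g.1.2, g.2⟩) • x i = y i
    rw [e.apply_symm_apply]
    exact Subtype.ext (hg i)

variable {G : Type u} {Ω : Type v} [Group G] [MulAction G Ω] {T : Subgroup G}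

def L : List (ℕ × ℕ) := [(2, 6), (3, 3), (5, 1), (11, 1)]
def tbl : List ℕ := [360, 60, 660, 7920, 95040]

theorem valid_L : valid L 95040 = true := by decide +kernel

theorem tbl_ok : ((cands L 95040).all fun g => tbl.contains (ordN g)) = true := by decide +kernel

theorem surv : survives 95040 2 [1, 2] L [(11, 1, 5), (5, 4, 8)] [2, 3, 5] tbl = [55, 12] := by
  decide +kernel

theorem data (Tb : OrderTable.{u}) (hS : ∀ (X : Type u) [Group X] [Finite X] [IsSimpleGroup X], Cfsg.IsKnownSimple' X)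
    {T : Type u} [Group T] {Δ : Type} [MulAction T Δ] (S : Sh T Δ) :
    Data T [(11, 1, 5), (5, 4, 8)] [2, 3, 5] tbl where
  fin := S.finL
  lt := by rw [S.cardL]; norm_num
  prime := by
    rw [S.cardL]
    simp only [List.mem_cons, List.not_mem_nil, or_false, forall_eq_or_imp, forall_eq]
    norm_num
  cent := by
    simp only [List.mem_cons, List.not_mem_nil, or_false, forall_eq_or_imp, forall_eq]
    constructor
    · intro P hP
      obtain ⟨x, hx, rfl⟩ := exists_zpowers (by norm_num) P hP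
      rw [cent_zpowers, S.cent_eleven hx]
      exact ⟨dvd_refl _, S.norm_eleven hx⟩
    · intro P hP
      obtain ⟨x, hx, rfl⟩ := exists_zpowers (by norm_num) P hP
      rw [cent_zpowers]
      exact ⟨S.cent_five hx, S.norm_five hx⟩
  ps := by
    simp only [List.mem_cons, List.not_mem_nil, or_false]
    rintro r (rfl | rfl | rfl) <;> norm_num
  tbl := by
    intro K _ _ hK hna hd
    rw [S.cardL] at hd
    exact mem_tbl Tb hS valid_L tbl_ok K hK hna hd

/-- **The row `M12`.** -/
theorem row (Tb : OrderTable.{u}) (hS : ∀ (X : Type u) [Group X] [Finite X] [IsSimpleGroup X], Cfsg.IsKnownSimple' X)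
    (A : AS G Ω T) (h : Cfsg.Spor.IsoM12 ↥T) : Known2 ↥T (Nat.card Ω) := by
  have := A.finT
  obtain ⟨Δ, _, S⟩ := exists_sh h
  obtain ⟨e⟩ := h
  have ho : (MulAut.conj : ↥T →* MulAut ↥T).range.index ∣ 2 := by
    rw [index_inn_congr e]
    exact (show Nat.card (Cfsg.Out ↥Cfsg.Spor.M12) = 2 from S2061.result) ▸ dvd_refl _
  have h1 := mem_survives A (N := 95040) (out := 2) (js := [1, 2]) (l := L) (data := [(11, 1, 5), (5, 4, 8)])
    (ps := [2, 3, 5]) (tbl := tbl) S.cardL (card_dvd A ho)
    (by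
      intro j hj
      rcases (Nat.dvd_prime Nat.prime_two).1 hj with rfl | rfl
      · exact List.mem_cons_self
      · exact List.mem_cons_of_mem _ (List.mem_singleton_self _)) valid_L (data Tb hS S)
  rw [surv] at h1
  simp only [List.mem_cons, List.not_mem_nil, or_false] at h1
  rcases h1 with h1 | h1
  · exfalso
    obtain ⟨a⟩ : Nonempty Ω := by have := A.nontrivialΩ; infer_instance
    apply S.no_55 (stabilizer ↥T a)
    rw [A.index_stabilizer, h1]
  · rw [h1]; exact .m12 ⟨e⟩

end Cfsg.Agent.H354.TwoM12
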