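import Cfsg.Agent.H354.SporTools
import Cfsg.Agent.SporadicA.M24.Sylow11
import Cfsg.Agent.S0364
import Cfsg.Agent.S1589
import Cfsg.Agent.S2064

/-!
# HUB H1, P11: `M24` (helper354)
-/

set_option autoImplicit false

namespace Cfsg.Agent.H354.TwoM24

open Subgroup MulAction Cfsg.Agent.H384.TwoTrans Cfsg.Agent.H970.StabNum Cfsg.Agent.H970.TwoSpor
  Cfsg.Agent.OrdDiv Cfsg.Agent.H354.Spor

universe u v

variable {G : Type u} {Ω : Type v} [Group G] [MulAction G Ω] {T : Subgroup G}

def L : List (ℕ × ℕ) := [(2, 10), (3, 3), (5, 1), (7, 1), (11, 1), (23, 1)]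
def tbl : List ℕ := [2520, 20160, 504, 360, 60, 168, 660, 6072, 6048, 7920, 95040, 443520, 10200960, 244823040]

theorem valid_L : valid L 244823040 = true := by decide +kernel

theorem tbl_ok : ((cands L 244823040).all fun g => tbl.contains (ordN g)) = true := by decide +kernel

theorem surv : survives 244823040 1 [1] L [(23, 1, 11), (11, 1, 10)] [2, 3, 5, 7] tbl = [253, 24] := by
  decide +kernel

theorem data (Tb : OrderTable.{u}) (hS : ∀ (X : Type u) [Group X] [Finite X] [IsSimpleGroup X], Cfsg.IsKnownSimple' X)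
    {T : Type u} [Group T] [Finite T] [IsSimpleGroup T] (hT : Nat.card T = 244823040) :
    Data T [(23, 1, 11), (11, 1, 10)] [2, 3, 5, 7] tbl where
  fin := inferInstance
  lt := by rw [hT]; norm_num
  prime := by
    rw [hT]
    simp only [List.mem_cons, List.not_mem_nil, or_false, forall_eq_or_imp, forall_eq]
    norm_num
  cent := by
    simp only [List.mem_cons, List.not_mem_nil, or_false, forall_eq_or_imp, forall_eq]
    constructor
    · intro P hP
      have : Fact (Nat.Prime 23) := ⟨by norm_num⟩
      obtain ⟨S, hS⟩ := H970.StabK.exists_sylow hP (by rw [hT]; norm_num)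
      have h1 := SporadicA.M24.Sylow23.centralizer_eq hT S
      have h2 := SporadicA.M24.Sylow23.card_normalizer hT S
      have h3 : (S : Set T) = (P : Set T) := by rw [← hS]; rfl
      rw [h3] at h1 h2
      rw [h1, h2, hS, hP]
      exact ⟨dvd_refl _, dvd_refl _⟩
    · intro P hP
      have : Fact (Nat.Prime 11) := ⟨by norm_num⟩
      obtain ⟨S, hS⟩ := H970.StabK.exists_sylow hP (by rw [hT]; norm_num)
      have h1 := SporadicA.M24.Sylow11.centralizer_eq hT S
      have h2 := SporadicA.M24.Sylow11.card_normalizer hT S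
      have h3 : (S : Set T) = (P : Set T) := by rw [← hS]; rfl
      rw [h3] at h1 h2
      rw [h1, h2, hS, hP]
      exact ⟨dvd_refl _, dvd_refl _⟩
  ps := by
    simp only [List.mem_cons, List.not_mem_nil, or_false]
    rintro r (rfl | rfl | rfl | rfl) <;> norm_num
  tbl := by
    intro K _ _ hK hna hd
    rw [hT] at hd
    exact mem_tbl Tb hS valid_L tbl_ok K hK hna hd

/-- **The row `M24`.** -/
theorem row (Tb : OrderTable.{u}) (hS : ∀ (X : Type u) [Group X] [Finite X] [IsSimpleGroup X], Cfsg.IsKnownSimple' X)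
    (A : AS G Ω T) (h : Cfsg.Spor.IsoM24 ↥T) : Known2 ↥T (Nat.card Ω) := by
  have := A.finT
  have := A.simple
  obtain ⟨e⟩ := h
  have hcard : Nat.card ↥T = 244823040 := (Nat.card_congr e.toEquiv).trans S0364.result
  have ho : (MulAut.conj : ↥T →* MulAut ↥T).range.index ∣ 1 := by
    rw [index_inn_congr e]
    exact (show Nat.card (Cfsg.Out ↥Cfsg.M24) = 1 from S2064.result) ▸ dvd_refl _
  have h1 := mem_survives A (N := 244823040) (out := 1) (js := [1]) (l := L) (data := [(23, 1, 11), (11, 1, 10)])
    (ps := [2, 3, 5, 7]) (tbl := tbl) hcard (card_dvd A ho)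
    (by intro j hj; rw [Nat.dvd_one.1 hj]; exact List.mem_singleton_self _) valid_L (data Tb hS hcard)
  rw [surv] at h1
  simp only [List.mem_cons, List.not_mem_nil, or_false] at h1
  rcases h1 with h1 | h1
  · exfalso
    obtain ⟨a⟩ : Nonempty Ω := by have := A.nontrivialΩ; infer_instance
    apply S1589.result.2.2.2 ((stabilizer ↥T a).map e.toMonoidHom)
    rw [index_map_of_bijective e.bijective, A.index_stabilizer, h1]
  · rw [h1]; exact .m24 ⟨e⟩

end Cfsg.Agent.H354.TwoM24
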